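import Groth.Agent.DensePtsGrp.Closure
import Mathlib.AlgebraicGeometry.Morphisms.UniversallyOpen

/-!
# Products of schemes with dense rational points
-/

set_option autoImplicit false
set_option linter.style.haveILetI false
set_option backward.isDefEq.respectTransparency false

universe u

open CategoryTheory CategoryTheory.Limits MonoidalCategory CartesianMonoidalCategory AlgebraicGeometry

noncomputable section

namespace Groth.Agent.DensePtsGrp

variable {k : Type u} [Field k]

/-- Products of schemes with dense rational points have dense rational points. -/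
theorem densePts_prod {X Y : Over (Spec (CommRingCat.of k))} [LocallyOfFiniteType X.hom] [LocallyOfFiniteType Y.hom]
    (hX : DensePts X) (hY : DensePts Y) : DensePts (X ⊗ Y) := by
  haveI : UniversallyOpen X.hom := inferInstance
  haveI : UniversallyOpen (snd X Y).left :=
    inferInstanceAs (UniversallyOpen (pullback.snd X.hom Y.hom))
  refine dense_iff_inter_open.2 fun W hW hne => ?_
  obtain ⟨w₀, hw₀⟩ := hne
  obtain ⟨_, ⟨w, hwW, rfl⟩, y, hy⟩ := hY.inter_open_nonempty _ ((snd X Y).left.isOpenMap W hW) ⟨_, w₀, hw₀, rfl⟩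
  let sl : X ⟶ X ⊗ Y := lift (𝟙 X) (toUnit X ≫ y)
  have hmem : w ∈ Set.range sl.left := by
    let σ : pullback X.hom (𝟙 (Spec (CommRingCat.of k))) ⟶ pullback X.hom Y.hom :=
      pullback.map _ _ _ _ (𝟙 _) y.left (𝟙 _) (by simp) (by simpa using (Over.w y).symm)
    have hr : w ∈ Set.range σ := by
      rw [Scheme.Pullback.range_map]
      exact ⟨⟨_, rfl⟩, ⟨_, hy⟩⟩
    obtain ⟨t, ht⟩ := hr
    refine ⟨pullback.fst X.hom (𝟙 _) t, ?_⟩
    rw [← ht, ← Scheme.Hom.comp_apply]
    have h : pullback.fst X.hom (𝟙 _) ≫ sl.left = σ := by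
      refine pullback.hom_ext ?_ ?_
      · rw [Category.assoc, show sl.left ≫ pullback.fst X.hom Y.hom = 𝟙 X.left from
          congrArg (fun m => m.left) (lift_fst (𝟙 X) (toUnit X ≫ y)), Category.comp_id]
        simp [σ]
      · rw [Category.assoc, show sl.left ≫ pullback.snd X.hom Y.hom = (toUnit X ≫ y).left from
          congrArg (fun m => m.left) (lift_snd (𝟙 X) (toUnit X ≫ y))]
        simp only [σ, pullback.map, pullback.lift_snd]
        show pullback.fst X.hom _ ≫ X.hom ≫ y.left = pullback.snd X.hom _ ≫ y.left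
        rw [pullback.condition_assoc]
        exact congrArg (pullback.snd X.hom _ ≫ ·) (Category.id_comp _)
    exact congrArg (fun m : pullback X.hom (𝟙 (Spec (CommRingCat.of k))) ⟶ _ => m t) h
  obtain ⟨x₀, hx₀⟩ := hmem
  obtain ⟨_, hx, g, rfl⟩ := hX.inter_open_nonempty _ (hW.preimage sl.left.continuous) ⟨x₀, by
    show sl.left x₀ ∈ W
    rw [hx₀]; exact hwW⟩
  exact ⟨_, hx, g ≫ sl, rfl⟩

end Groth.Agent.DensePtsGrp
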