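import Groth.Agent.GrMax.Main
import Groth.Agent.GrpField.RatClosure
import Groth.Agent.MTExt.PreimageSub
import Groth.Agent.S14756

/-!
# The subgroup generated by the rational points
-/

set_option autoImplicit false
set_option linter.unusedSectionVars false
set_option linter.style.haveILetI false
set_option backward.isDefEq.respectTransparency false
set_option maxHeartbeats 1000000
set_option synthInstance.maxHeartbeats 400000

universe u

open CategoryTheory CategoryTheory.Limits MonoidalCategory CartesianMonoidalCategory MonObj GrpObj AlgebraicGeometry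

noncomputable section

namespace Groth.Agent.DensePtsGrp

variable {k : Type u} [Field k]

/-- The rational points are dense. -/
def DensePts (X : Over (Spec (CommRingCat.of k))) : Prop :=
  Dense {x : ↥X.left | ∃ g : 𝟙_ (Over (Spec (CommRingCat.of k))) ⟶ X, g.left (IsLocalRing.closedPoint k) = x}

/-- The closure of the rational points is a smooth closed subgroup. -/
theorem exists_ratSub (G : Over (Spec (CommRingCat.of k))) [GrpObj G] [LocallyOfFiniteType G.hom] :
    ∃ (R : Over (Spec (CommRingCat.of k))) (_ : GrpObj R) (r : R ⟶ G), IsMonHom r ∧ IsClosedImmersion r.left ∧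
      Smooth R.hom ∧ Set.range r.left = closure {x : ↥G.left |
        ∃ g : 𝟙_ (Over (Spec (CommRingCat.of k))) ⟶ G, g.left (IsLocalRing.closedPoint k) = x} := by
  obtain ⟨R, hR, r, hrm, hrc, hrs, hr⟩ := GrpField.RatClosure.exists_subgroup_closure (G := G) ⊤
  refine ⟨R, hR, r, hrm, hrc, hrs, hr.trans (congrArg closure ?_)⟩
  ext x
  constructor
  · rintro ⟨s, -, rfl⟩; exact ⟨s, rfl⟩
  · rintro ⟨s, rfl⟩; exact ⟨s, trivial, rfl⟩

/-- Reduced schemes with dense rational points map into that subgroup. -/
theorem exists_lift_dense {X G R : Over (Spec (CommRingCat.of k))} [IsReduced X.left] (hX : DensePts X) (f : X ⟶ G)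
    (r : R ⟶ G) [IsClosedImmersion r.left] (hr : Set.range r.left = closure {x : ↥G.left |
        ∃ g : 𝟙_ (Over (Spec (CommRingCat.of k))) ⟶ G, g.left (IsLocalRing.closedPoint k) = x}) :
    ∃ l : X ⟶ R, l ≫ r = f := by
  refine Chev.exists_lift_range f r ?_
  rw [hr]
  rintro _ ⟨x, rfl⟩
  refine map_mem_closure f.left.continuous (hX x) ?_
  rintro _ ⟨g, rfl⟩
  exact ⟨g ≫ f, rfl⟩

/-- Density of rational points passes to images. -/
theorem densePts_of_surjective {X Y : Over (Spec (CommRingCat.of k))} (f : X ⟶ Y) [Surjective f.left]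
    (h : DensePts X) : DensePts Y := by
  refine Dense.mono ?_ (f.left.surjective.denseRange.dense_image f.left.continuous h)
  rintro _ ⟨_, ⟨g, rfl⟩, rfl⟩
  exact ⟨g ≫ f, rfl⟩

/-- Base change along a surjective flat quasi-compact morphism is faithful. -/
theorem map_pullback_inj {S T : Scheme.{u}} (f : T ⟶ S) [Surjective f] [Flat f] [QuasiCompact f] {A B : Over S}
    {a b : A ⟶ B} (h : (Over.pullback f).map a = (Over.pullback f).map b) : a = b := by
  haveI : Surjective (pullback.fst A.hom f) := MorphismProperty.pullback_fst _ _ ‹Surjective f›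
  haveI : Flat (pullback.fst A.hom f) := MorphismProperty.pullback_fst _ _ ‹Flat f›
  haveI : QuasiCompact (pullback.fst A.hom f) := MorphismProperty.pullback_fst _ _ ‹QuasiCompact f›
  haveI : Epi (pullback.fst A.hom f) := Flat.epi_of_flat_of_surjective _
  refine Over.OverMorphism.ext ((cancel_epi (pullback.fst A.hom f)).1 ?_)
  have h1 := congrArg (fun m => m.left ≫ pullback.fst B.hom f) h
  simpa only [Over.pullback_map_left, pullback.lift_fst] using h1

/-- A factorisation through a monomorphism descends along base change. -/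
theorem exists_factor_descend {S T : Scheme.{u}} (f : T ⟶ S) [Surjective f] [Flat f] [QuasiCompact f] {Z Q D : Over S}
    (z : Z ⟶ Q) [Mono z] (g : D ⟶ Q)
    (h : ∃ w, w ≫ (Over.pullback f).map z = (Over.pullback f).map g) : ∃ w, w ≫ z = g := by
  let F := Over.pullback f
  haveI : PreservesLimitsOfShape WalkingCospan F :=
    (Adjunction.rightAdjoint_preservesLimits (Over.mapPullbackAdj _)).preservesLimitsOfShape
  obtain ⟨w, hw⟩ := h
  have hP := (IsPullback.of_hasPullback z g).map F
  haveI : Mono (pullback.snd z g) := inferInstance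
  haveI : Mono (F.map (pullback.snd z g)) := inferInstance
  haveI : IsSplitEpi (F.map (pullback.snd z g)) :=
    ⟨⟨hP.lift w (𝟙 _) (by rw [hw, Category.id_comp]), hP.lift_snd _ _ _⟩⟩
  haveI : IsIso (F.map (pullback.snd z g)) := isIso_of_mono_of_isSplitEpi _
  haveI : IsIso (pullback.snd z g) := Chev.Borel.isIso_of_isIso_pullback f (pullback.snd z g)
  exact ⟨inv (pullback.snd z g) ≫ pullback.fst z g, by
    rw [Category.assoc, pullback.condition, IsIso.inv_hom_id_assoc]⟩

/-- The smooth image of a homomorphism, over any field. -/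
theorem exists_smooth_image {H Q : Over (Spec (CommRingCat.of k))} [GrpObj H] [GrpObj Q] [Smooth H.hom]
    [QuasiCompact H.hom] [LocallyOfFiniteType Q.hom] [QuasiCompact Q.hom] (f : H ⟶ Q) [IsMonHom f] :
    ∃ (N : Over (Spec (CommRingCat.of k))) (_ : GrpObj N) (i : N ⟶ Q) (g : H ⟶ N), IsMonHom i ∧
      IsClosedImmersion i.left ∧ g ≫ i = f ∧ Surjective g.left ∧ Smooth N.hom := by
  haveI : IsSeparated Q.hom := GrpField.isSeparated_hom Q
  haveI : QuasiCompact (f.left ≫ Q.hom) := by rw [Over.w]; infer_instance
  haveI : QuasiCompact f.left := QuasiCompact.of_comp f.left Q.hom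
  obtain ⟨N, hN, i, g, hi, hg, hgi, hic, hgd, hgq, hgs⟩ := GrpField.SchImg.exists_image f
  haveI := hi; haveI := hg; haveI := hic; haveI := hgd; haveI := hgq; haveI := hgs
  haveI : LocallyOfFiniteType N.hom := by rw [← Over.w i]; infer_instance
  haveI : GeometricallyReduced H.hom := GrpField.SchImg.geometricallyReduced_of_smooth H.hom
  haveI : GeometricallyReduced N.hom := GrpField.SchImg.geometricallyReduced_of_schDom g
  haveI : Smooth N.hom := AVEuler.smooth_of_geometricallyReduced N
  exact ⟨N, hN, i, g, hi, hic, hgi, hgs, inferInstance⟩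

end Groth.Agent.DensePtsGrp
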