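import Groth.Agent.TorusChar.Action
import Groth.Agent.TorusChar.Main
import Groth.Agent.Chev.TorusBasic
import Groth.Agent.DensePtsGrp.Closure

/-!
# Rational points of tori over infinite fields are dense
-/

set_option autoImplicit false
set_option linter.unusedSectionVars false
set_option linter.style.haveILetI false
set_option backward.isDefEq.respectTransparency false
set_option backward.isDefEq.respectTransparency.types false
set_option maxHeartbeats 1000000
set_option synthInstance.maxHeartbeats 400000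

universe u

open CategoryTheory MonoidalCategory CartesianMonoidalCategory AlgebraicGeometry TensorProduct
open scoped CategoryTheory.Obj CategoryTheory.MonObj

noncomputable section

namespace Groth.Agent.DensePtsGrp

open Groth.Agent.TorusChar (Lat g)

variable {k : Type u} [Field k] {A : Type u} [CommRing A] [HopfAlgebra k A]
  {N : Type u} [Field N] [Algebra k N] [FiniteDimensional k N] [IsGalois k N] {n : ℕ}

/-- A polynomial vanishing on all conjugate tuples vanishes. -/
theorem exists_eval_conj [Infinite k] (P : MvPolynomial (Gal(N/k) × Fin n) N) (hP : P ≠ 0) :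
    ∃ y : Fin n → N, MvPolynomial.eval (fun p => p.1 (y p.2)) P ≠ 0 := by
  classical
  by_contra hcon
  push Not at hcon
  haveI : Infinite N := Infinite.of_injective _ (algebraMap k N).injective
  let b := Module.finBasis k N
  let Q : MvPolynomial (Fin (Module.finrank k N) × Fin n) N :=
    MvPolynomial.bind₁ (fun p => ∑ j, MvPolynomial.C (p.1 (b j)) * MvPolynomial.X (j, p.2)) P
  have heval : ∀ w : Fin (Module.finrank k N) × Fin n → N, MvPolynomial.eval w Q =
      MvPolynomial.eval (fun p => ∑ j, p.1 (b j) * w (j, p.2)) P := fun w => by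
    show MvPolynomial.eval₂Hom (RingHom.id N) w _ = _
    rw [MvPolynomial.eval₂Hom_bind₁]
    simp
  have hQ : Q = 0 := by
    refine MvPolynomial.funext_set (fun _ => Set.range (algebraMap k N))
      (fun _ => Set.infinite_range_of_injective (algebraMap k N).injective) fun w hw => ?_
    rw [map_zero]
    choose t ht using fun q => hw q trivial
    rw [heval]
    have := hcon fun i => ∑ j, t (j, i) • b j
    refine Eq.trans (congrArg (fun z => MvPolynomial.eval z P) (funext fun p => ?_)) this
    simp only [← ht, map_sum, Algebra.smul_def, map_mul, AlgEquiv.commutes]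
    exact Finset.sum_congr rfl fun j _ => mul_comm _ _
  refine hP (MvPolynomial.funext fun z => ?_)
  rw [map_zero]
  let M : (Fin (Module.finrank k N) → N) →ₗ[N] (Gal(N/k) → N) :=
    { toFun := fun w σ => ∑ j, σ (b j) * w j
      map_add' := fun w w' => funext fun σ => by simp [mul_add, Finset.sum_add_distrib]
      map_smul' := fun c w => funext fun σ => by simp [Finset.mul_sum, mul_left_comm] }
  have hM : LinearMap.range M = ⊤ := by
    by_contra hne
    obtain ⟨φ, hφ, hle⟩ := Submodule.exists_le_ker_of_lt_top _ (lt_top_iff_ne_top.2 hne)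
    let c : Gal(N/k) → N := fun σ => φ (Pi.single σ 1)
    have hφe : ∀ v, φ v = ∑ σ, c σ * v σ := fun v => by
      conv_lhs => rw [pi_eq_sum_univ' v, map_sum]
      exact Finset.sum_congr rfl fun σ _ => by rw [map_smul, smul_eq_mul, mul_comm]
    have hb : ∀ j, ∑ σ, c σ * σ (b j) = 0 := fun j => by
      have h1 : φ (M (Pi.single j 1)) = 0 := hle ⟨_, rfl⟩
      rw [hφe] at h1
      simpa [M, Pi.single_apply] using h1
    have hzero : ∀ x : N, ∑ σ, c σ * σ x = 0 := fun x => by
      rw [← b.sum_repr x]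
      simp only [map_sum, map_smul, Finset.mul_sum]
      rw [Finset.sum_comm]
      refine Finset.sum_eq_zero fun j _ => ?_
      simp only [mul_smul_comm]
      rw [← Finset.smul_sum, hb, smul_zero]
    have hli : LinearIndependent N fun σ : Gal(N/k) => (((σ : N →ₐ[k] N) : N →* N) : N → N) :=
      (linearIndependent_monoidHom N N).comp (fun σ : Gal(N/k) => ((σ : N →ₐ[k] N) : N →* N))
        fun σ τ h => AlgEquiv.ext fun x => DFunLike.congr_fun h x
    have hc := Fintype.linearIndependent_iff.1 hli c (funext fun x => by simpa using hzero x)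
    exact hφ (LinearMap.ext fun v => by rw [hφe]; simp [hc])
  choose w hw using fun i => LinearMap.range_eq_top.1 hM fun σ => z (σ, i)
  have h1 := heval fun q => w q.2 q.1
  rw [hQ, map_zero] at h1
  rw [h1]
  exact congrArg (fun z => MvPolynomial.eval z P) (funext fun p => (congrFun (hw p.2) p.1).symm)

/-- The monomial character of a tuple of units. -/
def monoChar (y : Fin n → Nˣ) : Multiplicative (Fin n → ℤ) →* Nˣ where
  toFun v := ∏ i, y i ^ Multiplicative.toAdd v i
  map_one' := by simp
  map_mul' v w := by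
    rw [← Finset.prod_mul_distrib]
    exact Finset.prod_congr rfl fun i _ => by simp [zpow_add]

/-- The equivariant character of a tuple of units. -/
def normChar (ρ : Gal(N/k) →* Matrix.GeneralLinearGroup (Fin n) ℤ) (y : Fin n → Nˣ) :
    Multiplicative (Fin n → ℤ) →* N :=
  (Units.coeHom N).comp (∏ σ : Gal(N/k), ((Units.map (σ : N →* N)).comp (monoChar y)).comp
    (AddMonoidHom.toMultiplicative
      (Matrix.mulVecLin ((ρ σ⁻¹ : Matrix.GeneralLinearGroup (Fin n) ℤ) : Matrix (Fin n) (Fin n) ℤ)).toAddMonoidHom))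

theorem normChar_apply (ρ : Gal(N/k) →* Matrix.GeneralLinearGroup (Fin n) ℤ) (y : Fin n → Nˣ) (v : Fin n → ℤ) :
    normChar ρ y (Multiplicative.ofAdd v) =
      ∏ σ : Gal(N/k), σ (∏ i, (y i : N) ^ ((ρ σ⁻¹ : Matrix (Fin n) (Fin n) ℤ).mulVec v i)) := by
  simp [normChar, monoChar, MonoidHom.finsetProd_apply, Units.coe_prod]

theorem normChar_equivariant (ρ : Gal(N/k) →* Matrix.GeneralLinearGroup (Fin n) ℤ) (y : Fin n → Nˣ)
    (τ : Gal(N/k)) (v : Fin n → ℤ) :
    normChar ρ y (Multiplicative.ofAdd ((ρ τ : Matrix (Fin n) (Fin n) ℤ).mulVec v)) =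
      τ (normChar ρ y (Multiplicative.ofAdd v)) := by
  rw [normChar_apply, normChar_apply, map_prod]
  refine (Fintype.prod_equiv (Equiv.mulLeft τ) _ _ fun σ => ?_).symm
  show τ (σ _) = (τ * σ) _
  rw [AlgEquiv.mul_apply]
  congr 3
  funext i
  rw [Matrix.mulVec_mulVec, ← Units.val_mul, ← map_mul]
  simp only [Equiv.coe_mulLeft, mul_inv_rev, inv_mul_cancel_right]

/-- **Rational points separate functions on a torus.** -/
theorem exists_point_ne_zero [Infinite k] (e : N ⊗[k] A ≃ₐc[N] MonoidAlgebra N (Lat.{u} n)) (a : A) (ha : a ≠ 0) : ∃ x : A →ₐ[k] k, x a ≠ 0 := by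
  classical
  obtain ⟨ρ, hρ⟩ := TorusChar.exists_action e
  let F : (Fin n → Nˣ) → N ⊗[k] A →ₐ[N] N := fun y =>
    (MonoidAlgebra.lift N N (Lat.{u} n) ((normChar ρ y).comp MulEquiv.ulift.toMonoidHom)).comp
      (e : N ⊗[k] A →ₐ[N] MonoidAlgebra N (Lat.{u} n))
  have hFg : ∀ y v, F y (g e v) = normChar ρ y (Multiplicative.ofAdd v) := fun y v => by
    show MonoidAlgebra.lift N N (Lat.{u} n) _ (e (e.symm _)) = _
    rw [e.apply_symm_apply, MonoidAlgebra.lift_single, one_smul]
    rfl
  have hFgal : ∀ y (τ : Gal(N/k)) (z : N ⊗[k] A), F y (MultT.galAct A τ z) = τ (F y z) := by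
    intro y τ z
    have hgen : ∀ w : MonoidAlgebra N (Lat.{u} n),
        F y (MultT.galAct A τ (e.symm w)) = τ (F y (e.symm w)) := by
      intro w
      induction w using MonoidAlgebra.induction_linear with
      | zero => simp
      | add a b ha hb => simp only [map_add, ha, hb]
      | single m r =>
        have h1 : e.symm (MonoidAlgebra.single m r) = r • g e (Multiplicative.toAdd m.down) := by
          rw [TorusChar.g, ← map_smul, MonoidAlgebra.smul_single, smul_eq_mul, mul_one]
          rfl
        rw [h1, show MultT.galAct A τ (r • g e (Multiplicative.toAdd m.down)) =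
          τ r • MultT.galAct A τ (g e (Multiplicative.toAdd m.down)) from MultT.chStage_smul _ _ _,
          map_smul, map_smul, smul_eq_mul, smul_eq_mul, hρ, hFg, hFg, map_mul, normChar_equivariant]
    simpa using hgen (e z)
  have hfix : ∀ y (b : A), F y ((1 : N) ⊗ₜ b) ∈ (Algebra.ofId k N).range := fun y b => by
    refine (IsGalois.mem_range_algebraMap_iff_fixed _).2 fun τ => ?_
    rw [← hFgal, show MultT.galAct A τ ((1 : N) ⊗ₜ[k] b) = (1 : N) ⊗ₜ[k] b by simp [MultT.galAct]]
  suffices h : ∃ y, F y ((1 : N) ⊗ₜ a) ≠ 0 by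
    obtain ⟨y, hy⟩ := h
    refine ⟨(AlgEquiv.ofInjective (Algebra.ofId k N) (algebraMap k N).injective).symm.toAlgHom.comp
      ((((F y).restrictScalars k).comp Algebra.TensorProduct.includeRight).codRestrict _ (hfix y)), fun h0 => hy ?_⟩
    have h1 := (map_eq_zero_iff _
      (AlgEquiv.ofInjective (Algebra.ofId k N) (algebraMap k N).injective).symm.injective).1 h0
    exact congrArg Subtype.val h1
  -- the polynomial
  let f := e ((1 : N) ⊗ₜ[k] a)
  have hf : f ≠ 0 := fun h => ha (Algebra.TensorProduct.includeRight_injective (A := N) (algebraMap k N).injective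
    (show (1 : N) ⊗ₜ[k] a = (1 : N) ⊗ₜ[k] (0 : A) by
      rw [TensorProduct.tmul_zero]; exact EquivLike.injective e (h.trans (map_zero e).symm)))
  let E : Lat.{u} n → Gal(N/k) × Fin n → ℤ := fun m p =>
    (ρ p.1⁻¹ : Matrix (Fin n) (Fin n) ℤ).mulVec (Multiplicative.toAdd m.down) p.2
  let M : ℤ := ∑ m ∈ f.coeff.support, ∑ p, |E m p|
  have hM : ∀ m ∈ f.coeff.support, ∀ p, 0 ≤ E m p + M := fun m hm p => by
    have h1 := Finset.single_le_sum (f := fun m => ∑ p, |E m p|) (fun _ _ => Finset.sum_nonneg fun _ _ => abs_nonneg _) hm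
    have h2 := Finset.single_le_sum (f := fun p => |E m p|) (fun _ _ => abs_nonneg _) (Finset.mem_univ p)
    have h3 := neg_abs_le (E m p)
    linarith
  let d : Lat.{u} n → (Gal(N/k) × Fin n →₀ ℕ) := fun m =>
    Finsupp.equivFunOnFinite.symm fun p => (E m p + M).toNat + 1
  let P : MvPolynomial (Gal(N/k) × Fin n) N := ∑ m ∈ f.coeff.support, MvPolynomial.monomial (d m) (f.coeff m)
  have hP : P ≠ 0 := by
    obtain ⟨m₀, hm₀⟩ : f.coeff.support.Nonempty := by
      rw [Finsupp.support_nonempty_iff]
      exact fun h => hf (MonoidAlgebra.coeff_injective (h.trans MonoidAlgebra.coeff_zero.symm))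
    intro h
    have h1 := congrArg (MvPolynomial.coeff (d m₀)) h
    rw [MvPolynomial.coeff_sum, MvPolynomial.coeff_zero, Finset.sum_eq_single_of_mem m₀ hm₀] at h1
    · simp at h1
      exact (Finsupp.mem_support_iff.1 hm₀) h1
    · intro m hm hne
      rw [MvPolynomial.coeff_monomial, if_neg]
      intro hd
      refine hne (ULift.ext _ _ (Multiplicative.toAdd.injective (funext fun i => ?_)))
      have h2 := DFunLike.congr_fun hd ((1 : Gal(N/k)), i)
      simp only [d, Finsupp.coe_equivFunOnFinite_symm, add_left_inj] at h2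
      have h3 : E m (1, i) = E m₀ (1, i) := by
        have e1 := hM m hm (1, i)
        have e2 := hM m₀ hm₀ (1, i)
        omega
      simpa [E] using h3
  obtain ⟨y, hy⟩ := exists_eval_conj P hP
  have hevalP : ∀ z : Gal(N/k) × Fin n → N, MvPolynomial.eval z P =
      ∑ m ∈ f.coeff.support, f.coeff m * ∏ p, z p ^ ((E m p + M).toNat + 1) := fun z => by
    simp only [P, map_sum, MvPolynomial.eval_monomial, Finsupp.prod_pow]
    rfl
  rw [hevalP] at hy
  have hy0 : ∀ i, y i ≠ 0 := fun i h0 => hy (Finset.sum_eq_zero fun m _ => by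
    rw [Finset.prod_eq_zero (i := ((1 : Gal(N/k)), i)) (Finset.mem_univ _) (by simp [h0]), mul_zero])
  let yu : Fin n → Nˣ := fun i => Units.mk0 (y i) (hy0 i)
  refine ⟨yu, fun h0 => hy ?_⟩
  have hval : F yu ((1 : N) ⊗ₜ a) =
      ∑ m ∈ f.coeff.support, f.coeff m * ∏ p : Gal(N/k) × Fin n, p.1 (y p.2) ^ E m p := by
    show MonoidAlgebra.lift N N (Lat.{u} n) _ f = _
    rw [MonoidAlgebra.lift_apply, Finsupp.sum]
    refine Finset.sum_congr rfl fun m _ => ?_
    rw [smul_eq_mul]
    congr 1
    show normChar ρ yu (Multiplicative.ofAdd (Multiplicative.toAdd m.down)) = _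
    rw [normChar_apply, Fintype.prod_prod_type]
    refine Finset.prod_congr rfl fun σ _ => ?_
    simp [E, yu, map_prod, map_zpow₀]
  rw [hval] at h0
  have hfac : ∀ m ∈ f.coeff.support, (∏ p : Gal(N/k) × Fin n, p.1 (y p.2) ^ ((E m p + M).toNat + 1)) =
      (∏ p : Gal(N/k) × Fin n, p.1 (y p.2) ^ E m p) * ∏ p : Gal(N/k) × Fin n, p.1 (y p.2) ^ (M + 1) := fun m hm => by
    rw [← Finset.prod_mul_distrib]
    refine Finset.prod_congr rfl fun p _ => ?_
    rw [← zpow_natCast, ← zpow_add₀ ((map_ne_zero p.1).2 (hy0 p.2))]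
    congr 1
    push_cast [Int.toNat_of_nonneg (hM m hm p)]
    ring
  rw [Finset.sum_congr rfl fun m hm => by rw [hfac m hm, ← mul_assoc], ← Finset.sum_mul, h0, zero_mul]

/-- **Rational points of tori over infinite fields are dense.** -/
theorem densePts_torus [Infinite k] (T : Over (Spec (CommRingCat.of k))) [GrpObj T] (hT : Red.IsTorus T) :
    DensePts T := by
  obtain ⟨L, _, _, w, r, hs⟩ := Chev.exists_split_of_isTorus hT
  obtain ⟨φ, rfl⟩ := Spec.map_surjective w
  letI : Algebra k L := φ.hom.toAlgebra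
  obtain ⟨A, _, _, ⟨i⟩, N, _, _, _, _, ⟨eN⟩⟩ :=
    TorusChar.exists_galois_split (n := r) T ⟨L, inferInstance, φ.hom.toAlgebra, hs⟩
  let fi : (Spec (CommRingCat.of A)).asOver (Spec (CommRingCat.of k)) ⟶ T := i.inv.hom.hom
  haveI : IsIso fi := ((Grp.forget _).mapIso i.symm).isIso_hom
  haveI : IsIso fi.left := inferInstanceAs (IsIso ((Over.forget _).map fi))
  let S : Set (PrimeSpectrum A) :=
    Set.range fun x : A →ₐ[k] k => PrimeSpectrum.comap x.toRingHom (IsLocalRing.closedPoint k)
  have hS : Dense S := by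
    refine PrimeSpectrum.isTopologicalBasis_basic_opens.dense_iff.2 ?_
    rintro _ ⟨a, rfl⟩ ⟨P, hP⟩
    obtain ⟨x, hx⟩ := exists_point_ne_zero eN a fun h0 => hP (by rw [h0]; exact P.asIdeal.zero_mem)
    exact ⟨_, fun hmem => hx (by simpa [IsLocalRing.closedPoint, IsLocalRing.maximalIdeal_eq_bot] using hmem), x, rfl⟩
  refine Dense.mono ?_ (fi.left.surjective.denseRange.dense_image fi.left.continuous hS)
  rintro _ ⟨_, ⟨x, rfl⟩, rfl⟩
  let pt : (Spec (CommRingCat.of k)).asOver (Spec (CommRingCat.of k)) ⟶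
      (Spec (CommRingCat.of A)).asOver (Spec (CommRingCat.of k)) :=
    Over.homMk (Spec.map (CommRingCat.ofHom x.toRingHom)) (by
      show Spec.map _ ≫ Spec.map _ = Spec.map _
      rw [← Spec.map_comp]
      exact congrArg Spec.map (CommRingCat.hom_ext (RingHom.ext fun c => x.commutes c)))
  refine ⟨TorusChar.unitIso.inv ≫ pt ≫ fi, ?_⟩
  haveI : Subsingleton ↥((Spec (CommRingCat.of k)).asOver (Spec (CommRingCat.of k))).left :=
    inferInstanceAs (Subsingleton (PrimeSpectrum k))
  rw [Over.comp_left, Scheme.Hom.comp_apply,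
    Subsingleton.elim (TorusChar.unitIso.inv.left (IsLocalRing.closedPoint k))
      (IsLocalRing.closedPoint k : ↥((Spec (CommRingCat.of k)).asOver (Spec (CommRingCat.of k))).left)]
  rfl

end Groth.Agent.DensePtsGrp
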