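import Groth.Agent.DensePtsGrp.Main
import Groth.Agent.DensePtsGrp.Torus
import Groth.Agent.DensePtsGrp.Prod
import Groth.Agent.UnipSplit.Hopf
import Groth.Agent.MTSect.Descent
import Groth.Agent.MTBridge.Hom
import Groth.Agent.PRed.Decomp
import Groth.Agent.RedLR.Unip
import Groth.Agent.S7951
import Groth.Agent.S4118
import Groth.Agent.S4119
import Groth.Agent.S8398
import Groth.Agent.S8429
import Groth.Agent.S7983
import Groth.Agent.Takeuchi.Quot

/-!
# Density of rational points in Cartan subgroups over perfect fields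
-/

set_option autoImplicit false
set_option linter.style.haveILetI false
set_option linter.unusedSectionVars false
set_option backward.isDefEq.respectTransparency false
set_option maxHeartbeats 1000000
set_option synthInstance.maxHeartbeats 400000

universe u

open CategoryTheory CategoryTheory.Limits MonoidalCategory CartesianMonoidalCategory MonObj GrpObj AlgebraicGeometry
open TensorProduct WithConv
open Groth.Agent.MTBridge (specGrp pt)
open Groth.Agent.GrMax (fieldMap)

noncomputable section

namespace Groth.Agent.DensePtsGrp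

variable {k : Type u} [Field k]

/-- A group whose maximal torus is trivial has no subtori. -/
theorem noSubtorus_of_maxTorus {Q S : Over (Spec (CommRingCat.of k))} [GrpObj Q] [GrpObj S] [IsAffine Q.left]
    [Smooth Q.hom] [ConnectedSpace Q.left] (s : S ⟶ Q) (hs : Red.IsMaximalTorus s) [IsIso S.hom] :
    Red.HasNoSubtorus k Q := by
  haveI : IsAffineHom Q.hom := isAffineHom_of_isAffine _
  let L := AlgebraicClosure k
  let f := fieldMap (k := k) L
  let F := Over.pullback f
  haveI : IsAffineHom (Red.bc f Q).hom := inferInstanceAs (IsAffineHom (pullback.snd Q.hom f))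
  haveI : IsAffine (Red.bc f Q).left := isAffine_of_isAffineHom (Red.bc f Q).hom
  haveI : Smooth (Red.bc f Q).hom := inferInstanceAs (Smooth (pullback.snd Q.hom f))
  haveI : ConnectedSpace (Red.bc f Q).left := AutFinOrd.connectedSpace_bc f Q
  refine (GrMax.hasNoSubtorus_bc_iff Q).2 ?_
  intro T'' _ j'' _ _ hT''
  obtain ⟨T₁, _, i₁, r, hi₁, hr⟩ := MTImage.exists_maxTorus_containing j'' hT''
  haveI := hi₁.1; haveI := hi₁.2.1
  obtain ⟨g, φ, -, -⟩ := Chev.Borel.maxTorus_conj _ _ hi₁
    (Chev.Borel.isMaxTorus_of_isMaximalTorus _ (Chev.MaxTorusBC.isMaximalTorus_bc s hs f))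
  haveI : IsIso (F.obj S).hom := inferInstanceAs (IsIso (pullback.snd S.hom f))
  haveI : IsIso φ.hom.left := inferInstanceAs (IsIso ((Over.forget _).map φ.hom))
  haveI : IsIso T₁.hom := by rw [← Over.w φ.hom]; infer_instance
  haveI : IsMonHom r := MTSplit.isMonHom_of_comp_mono r i₁ j'' hr
  haveI : Mono (r ≫ i₁) := by rw [hr]; infer_instance
  haveI : Mono r := mono_of_mono r i₁
  haveI : IsSplitEpi r := ⟨⟨toUnit T₁ ≫ η[T''], by
    refine Over.OverMorphism.ext ((cancel_mono T₁.hom).1 ?_)
    rw [Over.w, Over.w]⟩⟩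
  haveI : IsIso r := isIso_of_mono_of_isSplitEpi r
  haveI : IsIso r.left := inferInstanceAs (IsIso ((Over.forget _).map r))
  show IsIso T''.hom
  rw [← Over.w r]
  infer_instance

/-- A central extension of a unipotent group by a group of multiplicative type has a section over a perfect field. -/
theorem exists_section_multType [PerfectField k] {C T Q : Over (Spec (CommRingCat.of k))} [GrpObj C] [GrpObj T]
    [GrpObj Q] [IsAffine C.left] [LocallyOfFiniteType C.hom] [IsAffine Q.left] [Smooth Q.hom] [ConnectedSpace Q.left]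
    (hT : SGA3x.IsMultTypeFT T) (w : T ⟶ C) [IsMonHom w] [IsClosedImmersion w.left] (q : C ⟶ Q) [IsMonHom q]
    [Flat q.left] [Surjective q.left] (hk : AlgGrp.IsKernel w q) (hQ : Red.HasNoSubtorus k Q) :
    ∃ s : Q ⟶ C, s ≫ q = 𝟙 Q := by
  classical
  let L := AlgebraicClosure k
  obtain ⟨A, _, eA, heA⟩ := FinHopf.exists_hopf (R := CommRingCat.of k) C
  obtain ⟨B, _, eB, heB⟩ := FinHopf.exists_hopf (R := CommRingCat.of k) Q
  obtain ⟨Y, _, _, hY, hYft, ⟨eY⟩⟩ := MTBridge.exists_hopf T hT
  haveI := heA; haveI := heB; haveI := hYft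
  haveI : IsMonHom eA.inv := inferInstance
  haveI : IsMonHom eB.inv := inferInstance
  haveI : IsIso eA.hom.left := inferInstanceAs (IsIso ((Over.forget _).map eA.hom))
  haveI : IsIso eA.inv.left := inferInstanceAs (IsIso ((Over.forget _).map eA.inv))
  haveI : IsIso eB.hom.left := inferInstanceAs (IsIso ((Over.forget _).map eB.hom))
  haveI : IsIso eB.inv.left := inferInstanceAs (IsIso ((Over.forget _).map eB.inv))
  haveI : IsIso eY.inv.hom.hom.left :=
    inferInstanceAs (IsIso ((Over.forget _).map ((Grp.forget _).map eY.inv)))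
  haveI : Algebra.FiniteType k A := by
    have h0 : LocallyOfFiniteType (eA.hom.left ≫ C.hom) := inferInstance
    rw [Over.w eA.hom] at h0
    exact RingHom.finiteType_algebraMap.1 ((HasRingHomProperty.Spec_iff (P := @LocallyOfFiniteType)).1 h0)
  haveI : Algebra.FiniteType k B := by
    have h0 : LocallyOfFiniteType (eB.hom.left ≫ Q.hom) := inferInstance
    rw [Over.w eB.hom] at h0
    exact RingHom.finiteType_algebraMap.1 ((HasRingHomProperty.Spec_iff (P := @LocallyOfFiniteType)).1 h0)
  haveI : Algebra.FormallySmooth k B := by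
    have h1 : Smooth (eB.hom.left ≫ Q.hom) := inferInstance
    rw [Over.w eB.hom] at h1
    haveI := RingHom.smooth_algebraMap.1 ((HasRingHomProperty.Spec_iff (P := @Smooth)).1 h1)
    infer_instance
  -- the map of quotients
  let q' : (specGrp k A).X ⟶ (specGrp k B).X := eA.hom ≫ q ≫ eB.inv
  haveI : IsMonHom eA.hom := heA
  haveI : IsMonHom q' := inferInstanceAs (IsMonHom (eA.hom ≫ q ≫ eB.inv))
  obtain ⟨ψ, hψ⟩ := MTBridge.exists_bialgHom q'
  have hψi : Function.Injective ψ := by
    haveI hs : Surjective (Spec.map (CommRingCat.ofHom (ψ : B →ₐ[k] A).toRingHom)) := by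
      rw [← hψ]; exact inferInstanceAs (Surjective (eA.hom.left ≫ q.left ≫ eB.inv.left))
    haveI hf : Flat (Spec.map (CommRingCat.ofHom (ψ : B →ₐ[k] A).toRingHom)) := by
      rw [← hψ]; exact inferInstanceAs (Flat (eA.hom.left ≫ q.left ≫ eB.inv.left))
    letI : Algebra B A := (ψ : B →ₐ[k] A).toRingHom.toAlgebra
    haveI : Module.Flat B A := Flat.SpecMap_iff.1 hf
    haveI : Module.FaithfullyFlat B A := Module.FaithfullyFlat.of_comap_surjective fun P => hs.surj P
    exact FaithfulSMul.algebraMap_injective B A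
  let w' : (specGrp k Y).X ⟶ (specGrp k A).X := eY.inv.hom.hom ≫ w ≫ eA.inv
  haveI : IsMonHom eY.inv.hom.hom := eY.inv.hom.isMonHom_hom
  haveI : IsMonHom w' := inferInstanceAs (IsMonHom (eY.inv.hom.hom ≫ w ≫ eA.inv))
  haveI : IsClosedImmersion w'.left :=
    inferInstanceAs (IsClosedImmersion (eY.inv.hom.hom.left ≫ w.left ≫ eA.inv.left))
  obtain ⟨π, hπ, hπs⟩ := PRed.exists_bialgHom (k := k) (B := A) (C := Y) w' ‹_›
  have hπl : w'.left = Spec.map (CommRingCat.ofHom (π : A →ₐ[k] Y).toRingHom) := by rw [← hπ]; rfl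
  have hwq : w' ≫ q' = (1 : (specGrp k Y).X ⟶ (specGrp k B).X) := by
    simp only [w', q', Category.assoc, Iso.inv_hom_id_assoc]
    rw [← Category.assoc w q, hk.w, Category.assoc, ← Category.assoc eY.inv.hom.hom,
      toUnit_unique (eY.inv.hom.hom ≫ toUnit _) (toUnit _), ← Category.assoc, ← Hom.one_def, MonObj.one_comp]
  let J : Ideal A := Ideal.map (ψ : B →+* A) (RingHom.ker (Bialgebra.counitAlgHom k B))
  have hJπ : J = RingHom.ker π := by
    refine le_antisymm (Ideal.map_le_iff_le_comap.2 fun b hb => ?_) ?_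
    · have h1 : pt (R := k) (toConv (((π : A →ₐ[k] Y)).comp (ψ : B →ₐ[k] A))) = pt (R := k) (1 : WithConv (B →ₐ[k] Y)) := by
        apply Over.OverMorphism.ext
        rw [MTBridge.pt_left, show pt (R := k) (1 : WithConv (B →ₐ[k] Y)) = 1 from map_one _]
        refine Eq.trans ?_ (congrArg (fun m => m.left) hwq)
        rw [Over.comp_left, hπl, hψ, ← Spec.map_comp]
        rfl
      have h2 := congrArg (fun t : WithConv (B →ₐ[k] Y) => t.ofConv b) ((Spec.mapMulEquiv (R := k)).injective h1)
      show π (ψ b) = 0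
      refine h2.trans ?_
      rw [AlgHom.convOne_apply, show Coalgebra.counit (R := k) b = 0 from hb, map_zero]
    · let a : (Spec (CommRingCat.of (A ⧸ J))).asOver (Spec (CommRingCat.of k)) ⟶ (specGrp k A).X :=
        pt (toConv (Ideal.Quotient.mkₐ k J))
      have ha : a ≫ q' = 1 := by
        apply Over.OverMorphism.ext
        rw [Over.comp_left, MTBridge.pt_left, hψ, ← Spec.map_comp]
        show _ = (1 : (Spec (CommRingCat.of (A ⧸ J))).asOver (Spec (CommRingCat.of k)) ⟶ (specGrp k B).X).left
        rw [show (1 : (Spec (CommRingCat.of (A ⧸ J))).asOver (Spec (CommRingCat.of k)) ⟶ (specGrp k B).X) =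
          pt (R := k) (1 : WithConv (B →ₐ[k] A ⧸ J)) from (map_one _).symm, MTBridge.pt_left]
        refine congrArg Spec.map (CommRingCat.hom_ext (RingHom.ext fun b => ?_))
        show Ideal.Quotient.mk J (ψ b) = algebraMap k (A ⧸ J) (Coalgebra.counit (R := k) b)
        rw [← Ideal.Quotient.mk_algebraMap, Ideal.Quotient.mk_eq_mk_iff_sub_mem]
        have hm := Ideal.mem_map_of_mem (ψ : B →+* A)
          (show b - algebraMap k B (Coalgebra.counit (R := k) b) ∈ RingHom.ker (Bialgebra.counitAlgHom k B) by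
            simp [RingHom.mem_ker, Bialgebra.counit_algebraMap])
        rw [map_sub] at hm
        rwa [show (ψ : B →+* A) (algebraMap k B (Coalgebra.counit (R := k) b)) =
          algebraMap k A (Coalgebra.counit (R := k) b) from (ψ : B →ₐ[k] A).commutes _] at hm
      have haq : (a ≫ eA.hom) ≫ q = toUnit _ ≫ η[Q] := by
        have h := congrArg (· ≫ eB.hom) ha
        rw [MonObj.one_comp] at h
        rw [← Hom.one_def, ← h]
        simp [q']
      let m := hk.lift (a ≫ eA.hom) (toUnit _) haq
      let m' : (Spec (CommRingCat.of (A ⧸ J))).asOver (Spec (CommRingCat.of k)) ⟶ (specGrp k Y).X := m ≫ eY.hom.hom.hom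
      have hmw : m' ≫ w' = a := by
        have e1 : eY.hom.hom.hom ≫ eY.inv.hom.hom = 𝟙 _ :=
          congrArg (fun g : Grp.mk T ⟶ Grp.mk T => g.hom.hom) eY.hom_inv_id
        simp only [m', w', Category.assoc]
        rw [reassoc_of% e1, ← Category.assoc m w, hk.lift_fst, Category.assoc, Iso.hom_inv_id, Category.comp_id]
      intro x hx
      have h3 : m'.left ≫ w'.left = a.left := congrArg (fun g => g.left) hmw
      obtain ⟨χ, hχ⟩ : ∃ χ : CommRingCat.of Y ⟶ CommRingCat.of (A ⧸ J), Spec.map χ = m'.left :=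
        ⟨Spec.preimage m'.left, Spec.map_preimage _⟩
      rw [← hχ, hπl, MTBridge.pt_left, ← Spec.map_comp, Spec.map_inj] at h3
      have h4 := RingHom.congr_fun (congrArg CommRingCat.Hom.hom h3) x
      rw [← Ideal.Quotient.eq_zero_iff_mem]
      refine h4.symm.trans ?_
      show χ.hom (π x) = 0
      rw [RingHom.mem_ker.1 hx, map_zero]
  haveI hJH : J.IsHopfIdeal k := hJπ ▸ DiagUnip.isHopfIdeal_ker π
  -- the kernel is of multiplicative type
  have hH : SGA3b.IsMultTypeConst k (A ⧸ J) := by
    obtain ⟨M, _, ⟨E⟩⟩ := MultT.isDiag_of_isSepClosed (MultT.isMultType_baseChange hY L)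
    let πq : A ⧸ J →ₐc[k] Y := BialgHom.ofAlgHom
      (Ideal.Quotient.liftₐ J (π : A →ₐ[k] Y) fun x hx => RingHom.mem_ker.1 (show x ∈ RingHom.ker π from hJπ ▸ hx))
      (AlgHom.ext fun y => by
        obtain ⟨x, rfl⟩ := Ideal.Quotient.mk_surjective y
        exact CoalgHomClass.counit_comp_apply π x)
      (AlgHom.ext fun y => by
        obtain ⟨x, rfl⟩ := Ideal.Quotient.mk_surjective y
        refine Eq.trans ?_ (CoalgHomClass.map_comp_comul_apply π x)
        show Algebra.TensorProduct.map _ _ (Coalgebra.comul (R := k) (Bialgebra.Quotient.mkBialgHom (R := k) J x)) = _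
        rw [← CoalgHomClass.map_comp_comul_apply]
        generalize Coalgebra.comul (R := k) x = t
        induction t using TensorProduct.induction_on with
        | zero => simp
        | tmul p r => rfl
        | add p r hp hr => simp only [map_add, hp, hr])
    have hπq : Function.Bijective πq := by
      refine ⟨(injective_iff_map_eq_zero _).2 fun y hy => ?_, fun y => ?_⟩
      · obtain ⟨x, rfl⟩ := Ideal.Quotient.mk_surjective y
        rw [Ideal.Quotient.eq_zero_iff_mem, hJπ]
        exact hy
      · obtain ⟨x, rfl⟩ := hπs y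
        exact ⟨Ideal.Quotient.mk J x, rfl⟩
    have hbij : Function.Bijective (DiagUnip.bcHom L πq) :=
      ⟨DiagUnip.bcHom_injective L πq hπq.1, DiagUnip.bcHom_surjective L πq hπq.2⟩
    exact ⟨L, inferInstance, inferInstance, inferInstance, M, inferInstance,
      ⟨(BialgEquiv.ofBijective (DiagUnip.bcHom L πq) hbij).trans E⟩⟩
  -- the base is an affine space
  have hU : ∀ z : B, IsIdempotentElem z → z = 0 ∨ z = 1 := by
    haveI : ConnectedSpace (PrimeSpectrum B) :=
      show ConnectedSpace ↥(Spec (CommRingCat.of B)) from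
        eB.inv.left.surjective.connectedSpace eB.inv.left.continuous
    exact ((SchFinB.connectedSpace_iff_idem B).1 inferInstance).2
  haveI : _root_.IsReduced B := by
    haveI : IsReduced Q.left := SmoothRed.isReduced_of_smooth_scheme Q.hom
    haveI : IsReduced (Spec (CommRingCat.of B)) := isReduced_of_isOpenImmersion eB.hom.left
    exact (affine_isReduced_iff (CommRingCat.of B)).mp inferInstance
  have hBu : HopfRep.IsUnipotent k B := by
    haveI : IsAffineHom Q.hom := isAffineHom_of_isAffine _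
    let f := fieldMap (k := k) L
    haveI : IsAffineHom (Red.bc f Q).hom := inferInstanceAs (IsAffineHom (pullback.snd Q.hom f))
    haveI : IsAffine (Red.bc f Q).left := isAffine_of_isAffineHom (Red.bc f Q).hom
    haveI : Smooth (Red.bc f Q).hom := inferInstanceAs (Smooth (pullback.snd Q.hom f))
    haveI : ConnectedSpace (Red.bc f Q).left := AutFinOrd.connectedSpace_bc f Q
    obtain ⟨a, ha, -⟩ := GrMax.exists_bcIso L eB
    haveI := ha
    haveI : _root_.IsReduced (L ⊗[k] B) := by
      haveI : IsReduced (Red.bc f Q).left := SmoothRed.isReduced_of_smooth_scheme (Red.bc f Q).hom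
      haveI : IsIso a.hom.left := inferInstanceAs (IsIso ((Over.forget _).map a.hom))
      haveI : IsReduced (Spec (CommRingCat.of (L ⊗[k] B))) := isReduced_of_isOpenImmersion a.hom.left
      exact (affine_isReduced_iff (CommRingCat.of (L ⊗[k] B))).mp inferInstance
    exact (Groth.Agent.S7951.result k L B).2
      (RedLR.isUnipotent_of_hasNoSubtorus a ((GrMax.hasNoSubtorus_bc_iff Q).1 hQ))
  obtain ⟨n, ⟨eC⟩⟩ := UnipSplit.exists_algEquiv hBu hU
  obtain ⟨r, hr, -⟩ := MTSect.existsUnique_retraction ψ hψi J rfl hH eC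
  let s' : (specGrp k B).X ⟶ (specGrp k A).X := pt (toConv (r : A →ₐ[k] B))
  have hs' : s' ≫ q' = 𝟙 _ := by
    apply Over.OverMorphism.ext
    rw [Over.comp_left, MTBridge.pt_left, hψ, ← Spec.map_comp]
    show _ = 𝟙 (Spec (CommRingCat.of B))
    rw [← Spec.map_id]
    exact congrArg Spec.map (CommRingCat.hom_ext (RingHom.ext fun b =>
      congrArg (fun g : B →ₐc[k] B => g b) hr))
  refine ⟨eB.inv ≫ s' ≫ eA.hom, ?_⟩
  have h : s' ≫ eA.hom ≫ q = eB.hom := by
    have h1 := congrArg (fun g : (specGrp k B).X ⟶ (specGrp k B).X => g ≫ eB.hom) hs'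
    simp only [q', Category.assoc, Iso.inv_hom_id, Category.comp_id] at h1
    exact h1.trans (Category.id_comp eB.hom)
  rw [Category.assoc, Category.assoc, h, Iso.inv_hom_id]

/-- A Cartan subgroup over a perfect field is a torus times a unipotent group, as a scheme. -/
theorem exists_cover_cartan [PerfectField k] {G C : Over (Spec (CommRingCat.of k))} [GrpObj G] [GrpObj C]
    [IsAffine G.left] [Smooth G.hom] [ConnectedSpace G.left] (c : C ⟶ G) (hc : SGA3x.IsCartan c) :
    ∃ (T Q : Over (Spec (CommRingCat.of k))) (_ : GrpObj T) (_ : GrpObj Q) (Φ : T ⊗ Q ⟶ C), Red.IsTorus T ∧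
      IsAffine Q.left ∧ Smooth Q.hom ∧ ConnectedSpace Q.left ∧ Red.HasNoSubtorus k Q ∧ IsIso Φ := by
  classical
  haveI : IsAffineHom G.hom := isAffineHom_of_isAffine _
  haveI : Subsingleton ↥(Spec (CommRingCat.of k)) := inferInstanceAs (Subsingleton (PrimeSpectrum k))
  obtain ⟨T, _, i, hi, hic⟩ := Groth.Agent.S4119.result _ G (hasMaxTorus G) C c hc
  haveI := hi.1; haveI := hi.2.1
  haveI : IsMonHom c := hc.1
  haveI : Mono c := hc.2.1
  haveI : Smooth C.hom := hc.2.2.1
  haveI : IsClosedImmersion c.left := by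
    obtain ⟨C₁, _, c₁, hC₁, hcl₁, -, -⟩ := Groth.Agent.S4118.result _ G T i hi
    haveI := hcl₁
    haveI : Mono c₁ := hC₁.2.1
    obtain ⟨a, ha⟩ := (hC₁.2.2 C c).2 ((hic.2.2 C c).1 ⟨𝟙 C, Category.id_comp c⟩)
    obtain ⟨b, hb⟩ := (hic.2.2 C₁ c₁).2 ((hC₁.2.2 C₁ c₁).1 ⟨𝟙 C₁, Category.id_comp c₁⟩)
    haveI : IsIso a := ⟨b, by rw [← cancel_mono c, Category.assoc, hb, ha, Category.id_comp],
      by rw [← cancel_mono c₁, Category.assoc, ha, hb, Category.id_comp]⟩
    haveI : IsIso a.left := inferInstanceAs (IsIso ((Over.forget _).map a))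
    rw [← ha]
    exact inferInstanceAs (IsClosedImmersion (a.left ≫ c₁.left))
  haveI : IsAffine C.left := isAffine_of_isAffineHom c.left
  haveI : IsAffineHom C.hom := isAffineHom_of_isAffine _
  have hGconn : ∀ x : Spec (CommRingCat.of k), _root_.IsConnected (G.hom.base ⁻¹' {x}) := fun x => by
    rw [show G.hom.base ⁻¹' {x} = Set.univ from Set.eq_univ_of_forall fun y => Subsingleton.elim _ _]
    exact isConnected_univ
  haveI : ConnectedSpace C.left := connectedSpace_iff_univ.2 (by
    have h := MTImage.isConnected_fibre_cartan hGconn c hc (IsLocalRing.closedPoint k)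
    rwa [show C.hom.base ⁻¹' {IsLocalRing.closedPoint k} = Set.univ from
      Set.eq_univ_of_forall fun x => Subsingleton.elim _ _] at h)
  haveI : IsCommMonObj T := Chev.isCommMonObj_of_isTorus hi.2.2.1
  obtain ⟨w, hw⟩ := (hic.2.2 T i).2 fun X' x h => by
    letI : CommGroup (X' ⟶ T) := Hom.commGroup
    rw [← MonObj.mul_comp, ← MonObj.mul_comp, mul_comm x h]
  haveI : IsMonHom w := MTSplit.isMonHom_of_comp_mono w c i hw
  haveI : Mono (w ≫ c) := by rw [hw]; infer_instance
  haveI : Mono w := mono_of_mono w c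
  haveI := Chev.smooth_of_isTorus hi.2.2.1
  haveI : IsAffine T.left := Chev.isAffine_of_isTorus hi.2.2.1
  haveI : QuasiCompact w.left := by
    haveI : QuasiCompact (w.left ≫ C.hom) := by rw [Over.w w]; infer_instance
    exact QuasiCompact.of_comp w.left C.hom
  haveI : IsClosedImmersion w.left := GrpField.isClosedImmersion_of_mono w
  have hcentral : ∀ (X : Over (Spec (CommRingCat.of k))) (t : X ⟶ T) (g : X ⟶ C),
      (t ≫ w) * g = g * (t ≫ w) := fun X t g => by
    rw [← cancel_mono c, MonObj.mul_comp, MonObj.mul_comp, Category.assoc, hw]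
    have := (hic.2.2 X (g ≫ c)).1 ⟨g, rfl⟩ X (𝟙 X) t
    simpa using this.symm
  obtain ⟨Q, _, q, hq, hQa, hQl, hqf, hqs, hk⟩ := Takeuchi.exists_affine_quotient C T w
    (fun X g n => ⟨n, by rw [← hcentral X n g, mul_inv_cancel_right]⟩)
  haveI := hq; haveI := hQa; haveI := hQl; haveI := hqf; haveI := hqs
  haveI : IsAffineHom Q.hom := isAffineHom_of_isAffine _
  obtain ⟨-, hQsm, hQcn⟩ := Groth.Agent.S7983.result k C Q q
  haveI : Smooth Q.hom := hQsm inferInstance
  haveI : ConnectedSpace Q.left := hQcn inferInstance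
  have hker : ∀ (X : Over (Spec (CommRingCat.of k))) (z : X ⟶ C), z ≫ q = 1 →
      ∀ (X' : Over (Spec (CommRingCat.of k))) (x : X' ⟶ X) (g : X' ⟶ C), (x ≫ z) * g = g * (x ≫ z) := by
    intro X z hz X' x g
    obtain ⟨v, hv, -⟩ := hk.exists_lift z (toUnit _) hz
    rw [← hv, ← Category.assoc]
    exact hcentral X' (x ≫ v) g
  have hCconn : ∀ x : Spec (CommRingCat.of k), _root_.IsConnected (C.hom.base ⁻¹' {x}) := fun x => by
    rw [show C.hom.base ⁻¹' {x} = Set.univ from Set.eq_univ_of_forall fun y => Subsingleton.elim _ _]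
    exact isConnected_univ
  obtain ⟨S, _, s₀, hs₀⟩ := GrMax.exists_maxTorus Q
  obtain ⟨T₁, _, i₁, v, hi₁, hv, hvs₁, hvs, -⟩ := (Groth.Agent.S8429.result _ C Q (hasMaxTorus C) q
    (fun x => S8434.surjective_map (Red.geomPt x) q) hker).1 S s₀ hs₀
  haveI := hi₁.1; haveI := hi₁.2.1; haveI := hv; haveI := hvs; haveI := hs₀.1; haveI := hs₀.2.1
  obtain ⟨f, hf⟩ := Groth.Agent.S8398.result _ C hCconn T₁ i₁ hi₁ T (MTBridge.isMultTypeFT_of_isTorus T hi.2.2.1) w
    (fun X x g => hcentral X x g)
  let L := AlgebraicClosure k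
  let fL := fieldMap (k := k) L
  let F := Over.pullback fL
  haveI : PreservesLimitsOfShape WalkingCospan F :=
    (Adjunction.rightAdjoint_preservesLimits (Over.mapPullbackAdj _)).preservesLimitsOfShape
  haveI : Mono (F.map (i₁ ≫ c)) := inferInstance
  haveI : IsIso (F.map f) := (Chev.Borel.isMaxTorus_of_isMaximalTorus _
    (Chev.MaxTorusBC.isMaximalTorus_bc i hi fL)).2.2.2 (F.obj T₁) (F.map (i₁ ≫ c)) (F.map f)
      (Chev.Borel.isTorus_bc_scheme T₁ fL hi₁.2.2.1) (by
        rw [← Functor.map_comp, ← Category.assoc, hf, hw])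
  haveI : IsIso f := Chev.Borel.isIso_of_isIso_pullback fL f
  have hv1 : v ≫ s₀ = 1 := by
    rw [hvs₁, ← cancel_epi f, ← Category.assoc, hf, hk.w, MonObj.comp_one, Hom.one_def]
  haveI := Chev.smooth_of_isTorus hs₀.2.2.1
  haveI : IsIso S.hom := by
    haveI : Subsingleton S.left := by
      haveI : IsAffine S.left := Chev.isAffine_of_isTorus hs₀.2.2.1
      haveI : QuasiCompact s₀.left := by
        haveI : QuasiCompact (s₀.left ≫ Q.hom) := by rw [Over.w s₀]; infer_instance
        exact QuasiCompact.of_comp s₀.left Q.hom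
      haveI : IsClosedImmersion s₀.left := GrpField.isClosedImmersion_of_mono s₀
      refine ⟨fun a b => ?_⟩
      obtain ⟨a', rfl⟩ := v.left.surjective a
      obtain ⟨b', rfl⟩ := v.left.surjective b
      apply s₀.left.isClosedEmbedding.injective
      rw [← Scheme.Hom.comp_apply, ← Scheme.Hom.comp_apply, ← Over.comp_left, hv1, Hom.one_def, Over.comp_left,
        Scheme.Hom.comp_apply, Scheme.Hom.comp_apply]
      haveI : Subsingleton ↥(𝟙_ (Over (Spec (CommRingCat.of k)))).left :=
        inferInstanceAs (Subsingleton (PrimeSpectrum k))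
      exact congrArg _ (Subsingleton.elim _ _)
    haveI : IsReduced S.left := SmoothRed.isReduced_of_smooth_scheme S.hom
    haveI : IsSeparated S.hom := GrpField.isSeparated_hom S
    haveI := GrpField.isClosedImmersion_eta S
    haveI : Surjective η[S].left := ⟨fun y => ⟨IsLocalRing.closedPoint k, Subsingleton.elim _ _⟩⟩
    haveI : IsIso η[S].left := isIso_of_isClosedImmersion_of_surjective η[S].left
    have he : η[S].left ≫ S.hom = 𝟙 _ := Over.w η[S]
    rw [show S.hom = inv η[S].left by rw [← cancel_epi η[S].left, he, IsIso.hom_inv_id]]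
    infer_instance
  have hQ : Red.HasNoSubtorus k Q := noSubtorus_of_maxTorus s₀ hs₀
  obtain ⟨s, hs⟩ := exists_section_multType (MTBridge.isMultTypeFT_of_isTorus T hi.2.2.1) w q hk hQ
  -- the product map is an isomorphism
  let Φ : T ⊗ Q ⟶ C := (fst T Q ≫ w) * (snd T Q ≫ s)
  let inv' : C ⟶ T ⊗ Q := lift (hk.lift (𝟙 C * (q ≫ s)⁻¹) (toUnit _) (by
      rw [MonObj.mul_comp, GrpObj.inv_comp, Category.assoc, hs, Category.id_comp, Category.comp_id,
        mul_inv_cancel, Hom.one_def])) q
  have h2 : inv' ≫ Φ = 𝟙 C := by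
    simp only [inv', Φ, MonObj.comp_mul, lift_fst_assoc, lift_snd_assoc]
    rw [hk.lift_fst, inv_mul_cancel_right]
  have hΦq : Φ ≫ q = snd T Q := by
    simp only [Φ, MonObj.mul_comp, Category.assoc, hs, Category.comp_id, hk.w, ← Hom.one_def]
    simp
  haveI : IsIso Φ := ⟨inv', by
    refine CartesianMonoidalCategory.hom_ext _ _ ?_ ?_
    · rw [← cancel_mono w, Category.assoc, Category.id_comp, Category.assoc]
      simp only [inv', lift_fst_assoc, hk.lift_fst, MonObj.comp_mul, GrpObj.comp_inv, Category.comp_id]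
      rw [← Category.assoc Φ q s, hΦq]
      simp [Φ]
    · rw [Category.assoc, show inv' ≫ snd T Q = q from lift_snd _ _, hΦq, Category.id_comp], h2⟩
  exact ⟨T, Q, inferInstance, inferInstance, Φ, hi.2.2.1, inferInstance, inferInstance, inferInstance, hQ, inferInstance⟩

/-- **Rational points are dense in Cartan subgroups over perfect fields.** -/
theorem densePts_cartan [PerfectField k] [Infinite k] {G C : Over (Spec (CommRingCat.of k))} [GrpObj G] [GrpObj C]
    [IsAffine G.left] [Smooth G.hom] [ConnectedSpace G.left] (c : C ⟶ G) (hc : SGA3x.IsCartan c) : DensePts C := by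
  obtain ⟨T, Q, _, _, Φ, hT, hQa, hQs, hQc, hQ, hΦ⟩ := exists_cover_cartan c hc
  haveI := hQa; haveI := hQs; haveI := hQc; haveI := hΦ
  haveI : IsIso Φ.left := inferInstanceAs (IsIso ((Over.forget _).map Φ))
  haveI := Chev.smooth_of_isTorus hT
  exact densePts_of_surjective Φ (densePts_prod (densePts_torus T hT) (UnipSplit.densePts_noSubtorus Q hQ))

end Groth.Agent.DensePtsGrp
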