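import Groth.Agent.DensePtsGrp.Piece
import Groth.Agent.GrMax.Lie
import Groth.Agent.UnipTor.Main
import Groth.Agent.S8437
import Groth.Agent.S8414
import Groth.Agent.S8412
import Groth.Agent.Chev.NonAffine

/-!
# Rational points are dense as soon as they are dense in the Cartan subgroups
-/

set_option autoImplicit false
set_option linter.unusedSectionVars false
set_option linter.style.haveILetI false
set_option backward.isDefEq.respectTransparency false
set_option maxHeartbeats 2000000
set_option synthInstance.maxHeartbeats 400000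

universe u

open CategoryTheory CategoryTheory.Limits MonoidalCategory CartesianMonoidalCategory MonObj GrpObj AlgebraicGeometry
open TensorProduct WithConv
open scoped Groth.Agent.Takeuchi
open Groth.Agent.GrassClosed (SpA over_hom_ext)
open Groth.Agent.MTBridge (specGrp)

noncomputable section

namespace Groth.Agent.DensePtsGrp

open Groth.Agent.GrMax
open Groth.Agent.Chev.Borel (ptsR)

variable {k : Type u} [Field k]

/-- A group acquires a maximal torus over the field itself. -/
theorem hasMaxTorus (G : Over (Spec (CommRingCat.of k))) [GrpObj G] [Smooth G.hom] [QuasiCompact G.hom] :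
    SGA3x.HasMaxTorusFpqcLocally G := by
  obtain ⟨T, hT, i, hi⟩ := GrMax.exists_maxTorus G
  exact ⟨_, 𝟙 _, inferInstance, inferInstance, fun V hV => ⟨V, hV.isCompact, by simp⟩, _, inferInstance,
    (Over.pullback (𝟙 _)).map i, Chev.MaxTorusBC.isMaximalTorus_bc i hi _⟩

/-- **Density of rational points from the Cartan subgroups.** -/
theorem densePts_of_cartan [Infinite k] (N : ℕ) :
    ∀ (G : Over (Spec (CommRingCat.of k))) [GrpObj G] [IsAffine G.left] [Smooth G.hom] [ConnectedSpace G.left],
      topologicalKrullDim G.left < (N : ℕ) →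
      (∀ (C : Over (Spec (CommRingCat.of k))) [GrpObj C] (c : C ⟶ G), SGA3x.IsCartan c → DensePts C) →
      DensePts G := by
  induction N with
  | zero =>
    intro G _ _ _ _ h
    exfalso
    obtain ⟨d, hd⟩ := Chev.exists_natDim' G
    rw [hd] at h
    exact absurd (Nat.cast_lt (α := WithBot ℕ∞).1 h) (Nat.not_lt_zero d)
  | succ N IH =>
    intro G _ _ _ _ hdim hP
    classical
    haveI : IsAffineHom G.hom := isAffineHom_of_isAffine _
    haveI : IsSeparated G.hom := inferInstance
    haveI : Subsingleton ↥(Spec (CommRingCat.of k)) := inferInstanceAs (Subsingleton (PrimeSpectrum k))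
    obtain ⟨R, _, r, hrm, hrc, hrs, hr⟩ := exists_ratSub G
    haveI := hrm; haveI := hrc; haveI := hrs
    suffices huniv : Set.range r.left = Set.univ by
      exact dense_iff_closure_eq.2 (hr.symm.trans huniv)
    obtain ⟨Z, _, i, Q, _, q, hq, hQa, hQs, hQc, hqs, hk, hc⟩ := GrMax.exists_centre_quotient G
    haveI := hq; haveI := hQa; haveI := hQs; haveI := hQc; haveI := hqs
    haveI : IsMonHom i := hc.1
    haveI : Mono i := hc.2.1
    haveI : IsAffineHom Q.hom := isAffineHom_of_isAffine _
    haveI : IsSeparated Q.hom := inferInstance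
    haveI : Flat q.left := MTImage.flat_hom q
    have hker : ∀ (X : Over (Spec (CommRingCat.of k))) (z : X ⟶ G), z ≫ q = 1 →
        ∀ (X' : Over (Spec (CommRingCat.of k))) (x : X' ⟶ X) (g : X' ⟶ G), (x ≫ z) * g = g * (x ≫ z) := by
      intro X z hz X' x g
      obtain ⟨w, hw, -⟩ := hk.exists_lift z (toUnit _) hz
      simpa using (hc.2.2 X z).1 ⟨w, hw⟩ X' x g
    have hG : SGA3x.HasMaxTorusFpqcLocally G := hasMaxTorus G
    let L := AlgebraicClosure k
    let f := fieldMap (k := k) L
    let F := Over.pullback f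
    haveI : IsAffineHom (Red.bc f Q).hom := inferInstanceAs (IsAffineHom (pullback.snd Q.hom f))
    haveI : IsAffine (Red.bc f Q).left := isAffine_of_isAffineHom (Red.bc f Q).hom
    haveI : Smooth (Red.bc f Q).hom := inferInstanceAs (Smooth (pullback.snd Q.hom f))
    haveI : ConnectedSpace (Red.bc f Q).left := AutFinOrd.connectedSpace_bc f Q
    haveI : IsAffineHom (Red.bc f G).hom := inferInstanceAs (IsAffineHom (pullback.snd G.hom f))
    haveI : IsAffine (Red.bc f G).left := isAffine_of_isAffineHom (Red.bc f G).hom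
    haveI : Smooth (Red.bc f G).hom := inferInstanceAs (Smooth (pullback.snd G.hom f))
    haveI : ConnectedSpace (Red.bc f G).left := AutFinOrd.connectedSpace_bc f G
    by_cases hQ : Red.HasNoSubtorus L (Red.bc f Q)
    · -- the torus is central
      obtain ⟨T, _, t, ht⟩ := GrMax.exists_maxTorus G
      haveI := ht.1; haveI := ht.2.1
      obtain ⟨C, _, c, hC, hcl, hCart, -⟩ := Groth.Agent.S4118.result _ G T t ht
      haveI := hcl; haveI := hCart.2.2.1
      have htriv : t ≫ q = 1 := by
        refine map_pullback_inj f ?_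
        rw [UnipTor.eq_one_of_hasNoSubtorus hQ
          (MTBridge.isMultTypeFT_of_isTorus _ (Chev.isTorus_bc ht.2.2.1 f)) (F.map (t ≫ q)), Functor.map_one]
      obtain ⟨w, hw⟩ := (hC.2.2 G (𝟙 G)).2 fun X' x a => (hker T t htriv X' a (x ≫ 𝟙 G)).symm
      haveI : IsReduced C.left := SmoothRed.isReduced_of_smooth_scheme C.hom
      obtain ⟨l, hl⟩ := exists_lift_dense (hP C c hCart) c r hr
      refine Set.eq_univ_of_forall fun y => ⟨(w ≫ l).left y, ?_⟩
      rw [← Scheme.Hom.comp_apply, ← Over.comp_left, Category.assoc, hl, hw]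
      rfl
    -- coordinates
    obtain ⟨B, _, e, he⟩ := FinHopf.exists_hopf (R := CommRingCat.of k) Q
    haveI := he
    haveI : Algebra.FiniteType k B := by
      have h0 : LocallyOfFiniteType (e.hom.left ≫ Q.hom) := by
        haveI : IsIso e.hom.left := inferInstanceAs (IsIso ((Over.forget _).map e.hom))
        infer_instance
      rw [Over.w e.hom] at h0
      exact RingHom.finiteType_algebraMap.1 ((HasRingHomProperty.Spec_iff (P := @LocallyOfFiniteType)).1 h0)
    obtain ⟨n, ⟨C⟩⟩ := exists_matGen (k := k) (A := B)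
    obtain ⟨a, ham, -⟩ := exists_bcIso L e
    haveI := ham
    haveI : IsMonHom (F.map q) := inferInstance
    haveI : Surjective (F.map q).left := MorphismProperty.baseChange_map (P := @Surjective) f q ‹_›
    have hcL : Red.IsCentralizerOf (𝟙 (Red.bc f G)) (F.map i) := by
      have h := Chev.CentBC.isCentralizerOf_bc f (𝟙 G) i hc
      rwa [CategoryTheory.Functor.map_id] at h
    obtain ⟨dL, vL, hdL, hvL, hne⟩ :=
      exists_tangents (F.map i) (F.map q) (Chev.isKernel_bc f i q hk) hcL hQ a (C.bc L)
    obtain ⟨d₀, v₀, hd₀', hv₀', hne₀⟩ :=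
      exists_rational (Bialgebra.counitAlgHom k B) C.c
        ((dL.restrictScalars k) ∘ₗ (Algebra.TensorProduct.includeRight : B →ₐ[k] L ⊗[k] B).toLinearMap)
        ((vL.restrictScalars k) ∘ₗ (Algebra.TensorProduct.includeRight : B →ₐ[k] L ⊗[k] B).toLinearMap)
        (isTanAt_restrict L hdL) (isTanAt_restrict L hvL) hne
    have hgood₀ : IsGood C d₀ := ⟨fun x y => by rw [hd₀' x y, smul_eq_mul, smul_eq_mul]; ring,
      v₀, fun x y => by rw [hv₀' x y, smul_eq_mul, smul_eq_mul]; ring, hne₀ _⟩
    -- the image of the closure of the rational points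
    haveI : QuasiCompact R.hom := by rw [← Over.w r]; infer_instance
    obtain ⟨R', _, p, pR, hpm, hpc, hpR, hpRs, hR's⟩ := exists_smooth_image (r ≫ q)
    haveI := hpm; haveI := hpc; haveI := hR's; haveI := hpRs
    have piece : ∀ (d : B →ₗ[k] k) (hd : IsGood C d),
        (∃ w, w ≫ p = (ptsR e (CommAlgCat.of k (DualNumber k))).symm (GrMax.tanPt hd.1)) ∧
        ∀ (X : Over (Spec (CommRingCat.of k))) (δ : X ⟶ G), δ ≫ q = 1 → ∃ x, x ≫ r = δ := by
      intro d hd
      obtain ⟨C₀, _, j, D, _, dd, hjm, hjc, hC₀s, hC₀c, hjne, hDc, hDcl, wd, hwd⟩ := exists_piece e C hd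
      haveI := hjm; haveI := hjc; haveI := hC₀s; haveI := hC₀c; haveI := hDcl
      haveI : Mono j := GrpField.SchImg.mono_of_isClosedImmersion j
      haveI : IsAffine C₀.left := isAffine_of_isAffineHom j.left
      haveI : IsAffineHom C₀.hom := isAffineHom_of_isAffine _
      haveI : IsMonHom (dd ≫ j) := hDc.1
      haveI : Mono (dd ≫ j) := hDc.2.1
      haveI : Smooth D.hom := hDc.2.2.1
      haveI : IsAffine D.left := isAffine_of_isAffineHom (dd ≫ j).left
      haveI : IsAffineHom D.hom := isAffineHom_of_isAffine _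
      have hQconn : ∀ s : Spec (CommRingCat.of k), _root_.IsConnected (Q.hom.base ⁻¹' {s}) := fun s => by
        rw [show Q.hom.base ⁻¹' {s} = Set.univ from Set.eq_univ_of_forall fun x => Subsingleton.elim _ _]
        exact isConnected_univ
      have hGconn : ∀ s : Spec (CommRingCat.of k), _root_.IsConnected (G.hom.base ⁻¹' {s}) := fun s => by
        rw [show G.hom.base ⁻¹' {s} = Set.univ from Set.eq_univ_of_forall fun x => Subsingleton.elim _ _]
        exact isConnected_univ
      obtain ⟨C', _, c', v, hC', hvm, hvs, hvf, hpb⟩ := (Groth.Agent.S8437.result _ G Q hG q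
        (fun s => S8434.surjective_map (Red.geomPt s) q) hQconn hker).2 D (dd ≫ j) hDc
      haveI := hvm; haveI : IsMonHom c' := hC'.1; haveI : Smooth C'.hom := hC'.2.2.1
      let eC : C' ≅ Limits.pullback (dd ≫ j) q := hpb.flip.isoPullback
      haveI : IsIso eC.inv.left := ((Over.forget _).mapIso eC.symm).isIso_hom
      have hpsm : Smooth (Limits.pullback (dd ≫ j) q).hom := by rw [← Over.w eC.inv]; infer_instance
      have hpcn : ∀ s : Spec (CommRingCat.of k),
          _root_.IsConnected ((Limits.pullback (dd ≫ j) q).hom.base ⁻¹' {s}) := fun s => by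
        rw [show (Limits.pullback (dd ≫ j) q).hom.base ⁻¹' {s} = Set.univ from
          Set.eq_univ_of_forall fun x => Subsingleton.elim _ _]
        haveI : IsIso eC.hom.left := ((Over.forget _).mapIso eC).isIso_hom
        haveI : ConnectedSpace C'.left := connectedSpace_iff_univ.2 (by
          have h := MTImage.isConnected_fibre_cartan hGconn c' hC' s
          rwa [show C'.hom.base ⁻¹' {s} = Set.univ from Set.eq_univ_of_forall fun x => Subsingleton.elim _ _] at h)
        haveI := eC.hom.left.surjective.connectedSpace eC.hom.left.continuous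
        exact isConnected_univ
      haveI : LocallyOfFinitePresentation q.left := by
        haveI : LocallyOfFinitePresentation (q.left ≫ Q.hom) := by rw [Over.w q]; infer_instance
        exact LimDesc.lfp_of_comp q.left Q.hom
      obtain ⟨hG₁g, hsm, hfm⟩ := MTExt.exists_grpObj_pullback j q
      let G₁ := Limits.pullback j q
      let e₁ : G₁ ⟶ G := pullback.snd j q
      let p₁ : G₁ ⟶ C₀ := pullback.fst j q
      haveI : IsMonHom e₁ := hsm
      have hsq : IsPullback p₁.left e₁.left j.left q.left :=
        (IsPullback.of_hasPullback j q).map (Over.forget _)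
      haveI : IsClosedImmersion e₁.left :=
        MorphismProperty.of_isPullback (P := @IsClosedImmersion) hsq ‹IsClosedImmersion j.left›
      haveI : Surjective p₁.left := MorphismProperty.of_isPullback (P := @Surjective) hsq.flip ‹Surjective q.left›
      haveI : IsAffine G₁.left := isAffine_of_isAffineHom e₁.left
      haveI : IsAffineHom G₁.hom := isAffineHom_of_isAffine _
      have h8414 := Groth.Agent.S8414.result _ G Q q D (dd ≫ j) C₀ j ⟨dd, rfl⟩
      haveI : Smooth G₁.hom := h8414.1 hpsm inferInstance
      haveI : ConnectedSpace G₁.left := connectedSpace_iff_univ.2 (by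
        have h := h8414.2 hpcn (fun s => by
          rw [show C₀.hom.base ⁻¹' {s} = Set.univ from Set.eq_univ_of_forall fun x => Subsingleton.elim _ _]
          exact isConnected_univ) (IsLocalRing.closedPoint k)
        rwa [show G₁.hom.base ⁻¹' {IsLocalRing.closedPoint k} = Set.univ from
          Set.eq_univ_of_forall fun x => Subsingleton.elim _ _] at h)
      haveI : Mono e₁ := GrpField.SchImg.mono_of_isClosedImmersion e₁
      -- the preimage is smaller
      have hne₁ : Set.range e₁.left ≠ Set.univ := fun h => hjne (Set.eq_univ_of_forall fun y => by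
        obtain ⟨g, rfl⟩ := q.left.surjective y
        obtain ⟨g₁, rfl⟩ := h.ge (Set.mem_univ g)
        refine ⟨p₁.left g₁, ?_⟩
        rw [← Scheme.Hom.comp_apply, ← Scheme.Hom.comp_apply, ← Over.comp_left, ← Over.comp_left, pullback.condition])
      haveI : IrreducibleSpace G.left := SemiCont.irreducibleSpace_of_smooth G
      have hdim₁ : topologicalKrullDim G₁.left < (N : ℕ) := by
        have h := FreeJ.dim_lt_of_proper hdim _ e₁.left.isClosedEmbedding.isClosed_range hne₁
        refine lt_of_le_of_lt (le_of_eq ?_) h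
        exact IsHomeomorph.topologicalKrullDim_eq _ e₁.left.isClosedEmbedding.isEmbedding.toHomeomorph.isHomeomorph
      let eC₁ : C' ⟶ G₁ := pullback.lift (v ≫ dd) c' (by rw [Category.assoc]; exact hpb.w.symm)
      have heC₁ : eC₁ ≫ e₁ = c' := pullback.lift_snd _ _ _
      have hP₁ : ∀ (C₁ : Over (Spec (CommRingCat.of k))) [GrpObj C₁] (c₁ : C₁ ⟶ G₁), SGA3x.IsCartan c₁ →
          DensePts C₁ := fun C₁ _ c₁ hc₁ =>
        hP C₁ (c₁ ≫ e₁) ((Groth.Agent.S8412.result _ G hGconn G₁ e₁
          (fun s => AutFinOrd.connectedSpace_bc (Red.geomPt s) G₁)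
          (fun s => ⟨_, inferInstance, (Over.pullback (Red.geomPt s)).map eC₁, by
            rw [← Functor.map_comp, heC₁]; exact hC'.2.2.2 s⟩) C₁ c₁).1 hc₁)
      haveI : IsReduced G₁.left := SmoothRed.isReduced_of_smooth_scheme G₁.hom
      obtain ⟨l, hl⟩ := exists_lift_dense (IH G₁ hdim₁ hP₁) e₁ r hr
      haveI : IsReduced C₀.left := SmoothRed.isReduced_of_smooth_scheme C₀.hom
      obtain ⟨l₀, hl₀⟩ := Chev.exists_lift_range j p (by
        rintro _ ⟨x, rfl⟩
        obtain ⟨g₁, rfl⟩ := p₁.left.surjective x
        refine ⟨(l ≫ pR).left g₁, ?_⟩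
        rw [← Scheme.Hom.comp_apply, ← Scheme.Hom.comp_apply, ← Over.comp_left, ← Over.comp_left, Category.assoc,
          hpR, ← Category.assoc, hl, pullback.condition])
      refine ⟨⟨wd ≫ l₀, by rw [Category.assoc, hl₀, hwd]⟩, fun X δ hδ => ?_⟩
      exact ⟨pullback.lift 1 δ (by rw [MonObj.one_comp, hδ]) ≫ l, by
        rw [Category.assoc, hl, pullback.lift_snd]⟩
    haveI : IsIso p := isIso_of_good e p C hgood₀ fun d hd => (piece d hd).1
    haveI : IsIso p.left := inferInstanceAs (IsIso ((Over.forget _).map p))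
    refine Set.eq_univ_of_forall fun y => ?_
    obtain ⟨x, hx⟩ := (pR.left ≫ p.left).surjective (q.left y)
    have hx' : (r ≫ q).left x = q.left y := by rw [← hpR]; exact hx
    obtain ⟨w, hw₁, hw₂⟩ := Scheme.Pullback.exists_preimage_pullback (f := q.left) (g := (r ≫ q).left) y x hx'.symm
    let P := Limits.pullback q.left (r ≫ q).left
    let a' : Spec (P.residueField w) ⟶ P := P.fromSpecResidueField w
    let T : Over (Spec (CommRingCat.of k)) := Over.mk (a' ≫ pullback.fst q.left (r ≫ q).left ≫ G.hom)
    let α : T ⟶ G := Over.homMk (a' ≫ pullback.fst q.left (r ≫ q).left) (Category.assoc _ _ _)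
    let β : T ⟶ R := Over.homMk (a' ≫ pullback.snd q.left (r ≫ q).left) (by
      show _ = a' ≫ _ ≫ G.hom
      rw [Category.assoc, ← Over.w (r ≫ q), ← pullback.condition_assoc, Over.w q])
    have hαβ : α ≫ q = β ≫ r ≫ q := Over.OverMorphism.ext (by
      show (a' ≫ _) ≫ q.left = (a' ≫ _) ≫ (r ≫ q).left
      rw [Category.assoc, Category.assoc, pullback.condition])
    obtain ⟨x', hx'r⟩ := (piece d₀ hgood₀).2 T (α * (β ≫ r)⁻¹) (by
      rw [MonObj.mul_comp, GrpObj.inv_comp, Category.assoc, hαβ, mul_inv_cancel])
    refine ⟨(x' * β).left (IsLocalRing.closedPoint _), ?_⟩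
    rw [← Scheme.Hom.comp_apply, ← Over.comp_left, MonObj.mul_comp, hx'r, inv_mul_cancel_right]
    show (a' ≫ _) _ = y
    rw [Scheme.Hom.comp_apply]
    exact (congrArg _ (P.fromSpecResidueField_apply w _)).trans hw₁

/-- **Rational points are dense when they are dense in all Cartan subgroups.** -/
theorem densePts_affine [Infinite k] (G : Over (Spec (CommRingCat.of k))) [GrpObj G] [IsAffine G.left] [Smooth G.hom]
    [ConnectedSpace G.left]
    (hP : ∀ (C : Over (Spec (CommRingCat.of k))) [GrpObj C] (c : C ⟶ G), SGA3x.IsCartan c → DensePts C) :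
    DensePts G := by
  haveI : IsAffineHom G.hom := isAffineHom_of_isAffine _
  obtain ⟨d, hd⟩ := Chev.exists_natDim' G
  exact densePts_of_cartan (d + 1) G (by rw [hd]; exact_mod_cast Nat.lt_succ_self d) hP

end Groth.Agent.DensePtsGrp
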