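import Groth.Agent.GrMax.Step
import Groth.Agent.DynPar.Tangent

/-!
# Tangent vectors with non-nilpotent commutators span the tangent space
-/

set_option autoImplicit false
set_option linter.unusedSectionVars false
set_option linter.style.haveILetI false
set_option backward.isDefEq.respectTransparency false
set_option maxHeartbeats 1000000
set_option synthInstance.maxHeartbeats 400000

universe u

open CategoryTheory CategoryTheory.Limits MonoidalCategory CartesianMonoidalCategory MonObj GrpObj AlgebraicGeometry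
open TensorProduct WithConv
open scoped Groth.Agent.Takeuchi
open Groth.Agent.GrassClosed (SpA over_hom_ext)
open Groth.Agent.Takeuchi (Pt push)
open Groth.Agent.MTBridge (specGrp)
open Groth.Agent.Chev.PtsAction (sp)

noncomputable section

namespace Groth.Agent.DensePtsGrp

open Groth.Agent.GrMax
open Groth.Agent.Chev.Borel (ptsR ptsR_sp)

variable {k : Type u} [Field k] {B : Type u} [CommRing B] [HopfAlgebra k B] {n : ℕ}

/-- The projection of the dual numbers. -/
abbrev fstA (k : Type u) [Field k] : DualNumber k →ₐ[k] k := TrivSqZeroExt.fstHom k k k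

/-- Scaling the dual coordinate. -/
abbrev scaleA (t : k) : DualNumber k →ₐ[k] DualNumber k := TrivSqZeroExt.map (t • (LinearMap.id : k →ₗ[k] k))

theorem tanPt_apply {v : B →ₗ[k] k} (hv : GrMax.IsTan v) (a : B) :
    (GrMax.tanPt hv).ofConv a = TrivSqZeroExt.inl (Bialgebra.counitAlgHom k B a) + TrivSqZeroExt.inr (v a) := rfl

theorem isTan_add {d d' : B →ₗ[k] k} (hd : GrMax.IsTan d) (hd' : GrMax.IsTan d') : GrMax.IsTan (d + d') := fun a b => by
  simp only [LinearMap.add_apply, hd a b, hd' a b]; ring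

theorem isTan_smul {d : B →ₗ[k] k} (t : k) (hd : GrMax.IsTan d) : GrMax.IsTan (t • d) := fun a b => by
  simp only [LinearMap.smul_apply, hd a b, smul_eq_mul]; ring

theorem push_scale_tanPt {d : B →ₗ[k] k} (t : k) (hd : GrMax.IsTan d) :
    push (scaleA t) (GrMax.tanPt hd) = GrMax.tanPt (isTan_smul t hd) := by
  refine WithConv.ext (AlgHom.ext fun a => ?_)
  show scaleA t ((GrMax.tanPt hd).ofConv a) = (GrMax.tanPt (isTan_smul t hd)).ofConv a
  rw [tanPt_apply, tanPt_apply, map_add, TrivSqZeroExt.map_inl]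
  exact congrArg (TrivSqZeroExt.inl (Bialgebra.counitAlgHom k B a) + ·) (TrivSqZeroExt.map_inr _ _)

theorem tanPt_add {d d' : B →ₗ[k] k} (hd : GrMax.IsTan d) (hd' : GrMax.IsTan d') :
    GrMax.tanPt hd * GrMax.tanPt hd' = GrMax.tanPt (isTan_add hd hd') := by
  refine WithConv.ext (AlgHom.ext fun a => ?_)
  show (GrMax.tanPt hd * GrMax.tanPt hd') a = (GrMax.tanPt (isTan_add hd hd')).ofConv a
  rw [Takeuchi.mul_apply, tanPt_apply]
  have hl : ∀ z : B ⊗[k] B, Algebra.TensorProduct.lift (GrMax.tanPt hd).ofConv (GrMax.tanPt hd').ofConv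
      (fun _ _ => Commute.all _ _) z =
      TrivSqZeroExt.inl (Bialgebra.counitAlgHom k B
          (TensorProduct.lid k B ((Bialgebra.counitAlgHom k B).toLinearMap.rTensor B z))) +
      TrivSqZeroExt.inr (d (TensorProduct.rid k B ((Bialgebra.counitAlgHom k B).toLinearMap.lTensor B z)) +
        d' (TensorProduct.lid k B ((Bialgebra.counitAlgHom k B).toLinearMap.rTensor B z))) := by
    intro z
    induction z using TensorProduct.induction_on with
    | zero => simp
    | add x y hx hy => simp only [map_add, hx, hy, TrivSqZeroExt.inl_add, TrivSqZeroExt.inr_add]; abel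
    | tmul x y =>
      rw [Algebra.TensorProduct.lift_tmul, tanPt_apply, tanPt_apply]
      refine TrivSqZeroExt.ext ?_ ?_
      · simp [mul_comm]
      · simp [mul_comm, add_comm]
  refine Eq.trans ?_ ((hl (Coalgebra.comul (R := k) a)).trans ?_)
  · rfl
  · have h1 : (Bialgebra.counitAlgHom k B).toLinearMap = (Coalgebra.counit (R := k) : B →ₗ[k] k) := rfl
    simp [h1, Coalgebra.rTensor_counit_comul, Coalgebra.lTensor_counit_comul]

theorem exists_eq_tanPt {x : Pt k B (DualNumber k)} (hx : push (fstA k) x = 1) :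
    ∃ (d : B →ₗ[k] k) (hd : GrMax.IsTan d), GrMax.tanPt hd = x := by
  have hf : ∀ a, TrivSqZeroExt.fst (x.ofConv a) = Bialgebra.counitAlgHom k B a := fun a => by
    refine (congrArg (fun z : Pt k B k => z.ofConv a) hx).trans ?_
    rw [AlgHom.convOne_apply]
    rfl
  let d : B →ₗ[k] k := (TrivSqZeroExt.sndHom k k).comp x.ofConv.toLinearMap
  have hd : GrMax.IsTan d := fun a b => by
    show TrivSqZeroExt.snd (x.ofConv (a * b)) = _ * TrivSqZeroExt.snd (x.ofConv b) + TrivSqZeroExt.snd (x.ofConv a) * _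
    rw [map_mul, DualNumber.snd_mul, hf, hf]
  refine ⟨d, hd, WithConv.ext (AlgHom.ext fun a => TrivSqZeroExt.ext ?_ ?_)⟩
  · rw [tanPt_apply, hf]; simp
  · rw [tanPt_apply]; simp [d]

/-- Tangent vectors with a non-nilpotent commutator. -/
def IsGood (C : MatGen k B n) (d : B →ₗ[k] k) : Prop :=
  GrMax.IsTan d ∧ ∃ v : B →ₗ[k] k, GrMax.IsTan v ∧ ((adM (C.c.map d)) ^ (n * n)) (C.c.map v) ≠ 0

/-- Over an infinite field a good vector stays good after a general translation. -/
theorem exists_good_translate [Infinite k] (C : MatGen k B n) {d₀ D : B →ₗ[k] k} (h₀ : IsGood C d₀)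
    (hD : GrMax.IsTan D) : ∃ t : k, t ≠ 0 ∧ IsGood C (d₀ + t • D) := by
  classical
  obtain ⟨hd₀, v, hv, hne⟩ := h₀
  let DX : Matrix (Fin n) (Fin n) (Polynomial k) :=
    (C.c.map d₀).map Polynomial.C + (Polynomial.X : Polynomial k) • (C.c.map D).map Polynomial.C
  let P : Matrix (Fin n) (Fin n) (Polynomial k) :=
    (fun W : Matrix (Fin n) (Fin n) (Polynomial k) => DX * W - W * DX)^[n * n] ((C.c.map v).map Polynomial.C)
  have heval : ∀ t : k, P.map (Polynomial.evalRingHom t) =
      ((adM (C.c.map (d₀ + t • D))) ^ (n * n)) (C.c.map v) := by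
    intro t
    have h1 : DX.map (Polynomial.evalRingHom t) = C.c.map (d₀ + t • D) := by
      ext i j
      simp only [DX, Matrix.map_apply, Matrix.add_apply, Matrix.smul_apply, smul_eq_mul, map_add, map_mul,
        Polynomial.coe_evalRingHom, Polynomial.eval_C, Polynomial.eval_X, Polynomial.eval_add, Polynomial.eval_mul, LinearMap.add_apply, LinearMap.smul_apply]
    have h2 : ((C.c.map v).map Polynomial.C).map (Polynomial.evalRingHom t) = C.c.map v := by
      ext i j
      simp only [Matrix.map_apply, Polynomial.coe_evalRingHom, Polynomial.eval_C]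
    simp only [P]
    rw [map_adM_pow, h1, h2, adM_pow_apply]
  obtain ⟨i, j, hij⟩ : ∃ i j, P i j ≠ 0 := by
    by_contra hc
    push Not at hc
    refine hne ?_
    have := heval 0
    rw [zero_smul, add_zero] at this
    rw [← this]
    ext i j
    simp [hc i j]
  obtain ⟨t, ht⟩ : ∃ t : k, (P i j * Polynomial.X).eval t ≠ 0 := by
    by_contra hc
    push Not at hc
    exact mul_ne_zero hij Polynomial.X_ne_zero (Polynomial.funext fun x => by rw [hc x, Polynomial.eval_zero])
  rw [Polynomial.eval_mul, Polynomial.eval_X, mul_ne_zero_iff] at ht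
  refine ⟨t, ht.2, isTan_add hd₀ (isTan_smul t hD), v, hv, fun h => ht.1 ?_⟩
  have := congrFun (congrFun ((heval t).trans h) i) j
  simpa using this

/-- Change of the structure morphism of the source. -/
def recast {S X : Scheme.{u}} {Q : Over S} {f f' : X ⟶ S} (h : f = f') (v : Over.mk f ⟶ Q) : Over.mk f' ⟶ Q :=
  Over.homMk v.left (h ▸ Over.w v)

theorem recast_left {S X : Scheme.{u}} {Q : Over S} {f f' : X ⟶ S} (h : f = f') (v : Over.mk f ⟶ Q) :
    (recast h v).left = v.left := rfl

/-- A recast morphism killed by a morphism with the same underlying map. -/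
theorem recast_comp_eq_one {S X Z : Scheme.{u}} {Q : Over S} [GrpObj Q] {f f' : X ⟶ S} {g g' : Z ⟶ S} (h : f = f')
    (hg : g = g') (v : Over.mk f ⟶ Q) (w : Over.mk g ⟶ Over.mk f) (w' : Over.mk g' ⟶ Over.mk f')
    (hw : w.left = w'.left) (hv : w ≫ v = 1) : w' ≫ recast h v = 1 := by
  subst h hg
  rw [show w' = w from Over.OverMorphism.ext hw.symm]
  exact hv

/-- A recast factorisation. -/
theorem recast_symm_comp {S X : Scheme.{u}} {P Q : Over S} {f f' : X ⟶ S} (h : f = f') (v : Over.mk f ⟶ Q)
    (y : Over.mk f' ⟶ P) (p : P ⟶ Q) (hy : y ≫ p = recast h v) : recast h.symm y ≫ p = v := by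
  subst h
  exact Over.OverMorphism.ext (congrArg Over.Hom.left hy)

theorem qm_fst_left : (DynPar.qm (TrivSqZeroExt.fstHom k k k).toRingHom (DynPar.specMap_fst_fε (k := k))).left =
    Spec.map (CommRingCat.ofHom (TrivSqZeroExt.fstHom k k k).toRingHom) := rfl

theorem sp_fst_left : Spec.map (CommRingCat.ofHom (TrivSqZeroExt.fstHom k k k).toRingHom) =
    (sp (A := CommAlgCat.of k (DualNumber k)) (B := CommAlgCat.of k k) (TrivSqZeroExt.fstHom k k k)).left := rfl

variable {Q P : Over (Spec (CommRingCat.of k))} [GrpObj Q] [GrpObj P]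
  (e : (Spec (CommRingCat.of B)).asOver (Spec (CommRingCat.of k)) ≅ Q) [IsMonHom e.hom]

/-- A smooth closed subgroup containing the good tangent vectors is everything. -/
theorem isIso_of_good [Infinite k] [IsAffine Q.left] [Smooth Q.hom] [ConnectedSpace Q.left] [Smooth P.hom]
    (p : P ⟶ Q) [IsMonHom p] [IsClosedImmersion p.left] (C : MatGen k B n) {d₀ : B →ₗ[k] k} (h₀ : IsGood C d₀)
    (h : ∀ (d : B →ₗ[k] k) (hd : IsGood C d),
      ∃ w, w ≫ p = (ptsR e (CommAlgCat.of k (DualNumber k))).symm (GrMax.tanPt hd.1)) : IsIso p := by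
  refine DynPar.isIso_of_tan p fun v hv => ?_
  have hfε : DynPar.fε k = Spec.map (CommRingCat.ofHom (algebraMap k (DualNumber k))) := by
    show _ ≫ Spec.map (CommRingCat.ofHom (algebraMap k k)) = _
    rw [Algebra.algebraMap_self, CommRingCat.ofHom_id, Spec.map_id, Category.comp_id]
  let S := CommAlgCat.of k (DualNumber k)
  let v' : SpA S ⟶ Q := recast hfε v
  let x := ptsR e S v'
  have hx : push (fstA k) x = 1 := by
    refine (ptsR_sp e (R := S) (R' := CommAlgCat.of k k) (fstA k) v').symm.trans ?_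
    rw [show sp (A := S) (B := CommAlgCat.of k k) (fstA k) ≫ v' = 1 from ?_, map_one]
    exact recast_comp_eq_one hfε rfl v _ _ (qm_fst_left.trans sp_fst_left) hv
  obtain ⟨D, hD, hDx⟩ := exists_eq_tanPt hx
  obtain ⟨t, ht, hgood⟩ := exists_good_translate C h₀ hD
  obtain ⟨w₁, hw₁⟩ := h _ hgood
  obtain ⟨w₀, hw₀⟩ := h _ h₀
  have hneg : GrMax.IsTan ((-1 : k) • d₀) := isTan_smul _ h₀.1
  let y : SpA S ⟶ P := sp (A := S) (B := S) (scaleA t⁻¹) ≫
    (w₁ * (sp (A := S) (B := S) (scaleA (-1)) ≫ w₀))
  have hy : ptsR e S (y ≫ p) = x := by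
    simp only [y, Category.assoc, MonObj.mul_comp, hw₁, hw₀]
    rw [ptsR_sp, map_mul, ptsR_sp, MulEquiv.apply_symm_apply, MulEquiv.apply_symm_apply, push_scale_tanPt,
      tanPt_add, push_scale_tanPt, ← hDx]
    congr 1
    rw [smul_add, smul_add, smul_smul, smul_smul, inv_mul_cancel₀ ht, one_smul]
    module
  exact ⟨recast hfε.symm y, recast_symm_comp hfε v y p ((ptsR e S).injective hy)⟩

end Groth.Agent.DensePtsGrp
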