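import Groth.Agent.DensePtsGrp.Closure
import Groth.Agent.DensePtsGrp.Span
import Groth.Agent.GrMax.Containing
import Groth.Agent.S4118
import Groth.Agent.S8398
import Groth.Agent.MTImage.CartanImage

/-!
# The centralizer of the semisimple part of a good tangent vector
-/

set_option autoImplicit false
set_option linter.unusedSectionVars false
set_option linter.style.haveILetI false
set_option backward.isDefEq.respectTransparency false
set_option maxHeartbeats 1000000
set_option synthInstance.maxHeartbeats 400000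

universe u

open CategoryTheory CategoryTheory.Limits MonoidalCategory CartesianMonoidalCategory MonObj GrpObj AlgebraicGeometry
open TensorProduct WithConv Polynomial
open scoped Groth.Agent.Takeuchi
open Groth.Agent.GrassClosed (SpA over_hom_ext)
open Groth.Agent.Takeuchi (Pt push)
open Groth.Agent.MTBridge (specGrp)
open Groth.Agent.Chev.PtsAction (sp)

noncomputable section

namespace Groth.Agent.DensePtsGrp

open Groth.Agent.GrMax
open Groth.Agent.Chev.Borel (ptsR ptsR_sp)

variable {k : Type u} [Field k]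

/-- The dual numbers have one point. -/
theorem subsingleton_spec_dual (k : Type u) [Field k] : Subsingleton (PrimeSpectrum (DualNumber k)) := by
  refine ⟨fun P P' => ?_⟩
  have h : ∀ P : PrimeSpectrum (DualNumber k), P.asIdeal = RingHom.ker (fstA k : DualNumber k →+* k) := by
    intro P
    have hε : (DualNumber.eps : DualNumber k) ∈ P.asIdeal :=
      P.isPrime.mem_of_pow_mem 2 (by rw [pow_two, DualNumber.eps_mul_eps]; exact zero_mem _)
    have hle : RingHom.ker (fstA k : DualNumber k →+* k) ≤ P.asIdeal := fun x hx => by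
      have hx' : TrivSqZeroExt.fst x = 0 := hx
      have : x = algebraMap k (DualNumber k) (TrivSqZeroExt.snd x) * DualNumber.eps := by
        refine TrivSqZeroExt.ext ?_ ?_
        · simp [hx', TrivSqZeroExt.algebraMap_eq_inl]
        · simp [DualNumber.snd_mul, TrivSqZeroExt.algebraMap_eq_inl]
      rw [this]
      exact P.asIdeal.mul_mem_left _ hε
    exact ((RingHom.ker_isMaximal_of_surjective _ (fun r => ⟨TrivSqZeroExt.inl r, rfl⟩)).eq_of_le
      P.isPrime.ne_top hle).symm
  exact PrimeSpectrum.ext ((h P).trans (h P').symm)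

/-- **The centralizer piece of a good tangent vector.** -/
theorem exists_piece [Infinite k] {Q : Over (Spec (CommRingCat.of k))} [GrpObj Q] [IsAffine Q.left] [Smooth Q.hom]
    [ConnectedSpace Q.left] {B : Type u} [CommRing B] [HopfAlgebra k B]
    (e : (Spec (CommRingCat.of B)).asOver (Spec (CommRingCat.of k)) ≅ Q) [IsMonHom e.hom] {n : ℕ} (C : MatGen k B n)
    {d : B →ₗ[k] k} (hd : IsGood C d) :
    ∃ (C₀ : Over (Spec (CommRingCat.of k))) (_ : GrpObj C₀) (j : C₀ ⟶ Q) (D : Over (Spec (CommRingCat.of k)))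
      (_ : GrpObj D) (dd : D ⟶ C₀),
      IsMonHom j ∧ IsClosedImmersion j.left ∧ Smooth C₀.hom ∧ ConnectedSpace C₀.left ∧
      Set.range j.left ≠ Set.univ ∧ SGA3x.IsCartan (dd ≫ j) ∧ IsClosedImmersion (dd ≫ j).left ∧
      ∃ w, w ≫ j = (ptsR e (CommAlgCat.of k (DualNumber k))).symm (GrMax.tanPt hd.1) := by
  classical
  obtain ⟨hd₀, v₀, hv₀, hne₀⟩ := hd
  haveI : IsAffineHom Q.hom := isAffineHom_of_isAffine _
  let L := AlgebraicClosure k
  let f := fieldMap (k := k) L
  let F := Over.pullback f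
  haveI : PreservesLimitsOfShape WalkingCospan F :=
    (Adjunction.rightAdjoint_preservesLimits (Over.mapPullbackAdj _)).preservesLimitsOfShape
  haveI : IsAffineHom (Red.bc f Q).hom := inferInstanceAs (IsAffineHom (pullback.snd Q.hom f))
  haveI : IsAffine (Red.bc f Q).left := isAffine_of_isAffineHom (Red.bc f Q).hom
  haveI : Smooth (Red.bc f Q).hom := inferInstanceAs (Smooth (pullback.snd Q.hom f))
  haveI : ConnectedSpace (Red.bc f Q).left := AutFinOrd.connectedSpace_bc f Q
  haveI : Algebra.FiniteType k B := by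
    have h0 : LocallyOfFiniteType (e.hom.left ≫ Q.hom) := by
      haveI : IsIso e.hom.left := inferInstanceAs (IsIso ((Over.forget _).map e.hom))
      infer_instance
    rw [Over.w e.hom] at h0
    exact RingHom.finiteType_algebraMap.1 ((HasRingHomProperty.Spec_iff (P := @LocallyOfFiniteType)).1 h0)
  obtain ⟨a, ham, ha⟩ := exists_bcIso L e
  haveI := ham
  obtain ⟨P⟩ := exists_ssPoly L (C.c.map d)
  set e₀ := aeval (C.c.map d) P.q with he₀
  obtain ⟨Z', _, z, hzm, hzc, hza, hz⟩ := exists_matrixCentralizer e C e₀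
  haveI := hzm; haveI := hzc; haveI := hza
  haveI : Mono z := GrpField.SchImg.mono_of_isClosedImmersion z
  obtain ⟨H, _, u, hum, hHmt, hHconn, hHaff, hmem⟩ := exists_pointSubgroup a C hd₀ P
  haveI := hum; haveI := hHconn
  have hcent : ∀ (X : Over (Spec (CommRingCat.of L))) (g : X ⟶ Red.bc f Q), (∃ w, w ≫ F.map z = g) ↔
      ∀ (X' : Over (Spec (CommRingCat.of L))) (x : X' ⟶ X) (h : X' ⟶ H),
        (x ≫ g) * (h ≫ u) = (h ≫ u) * (x ≫ g) := fun X g =>
    (bc_matrixCentralizer_mem e a ha C e₀ z hz X g).trans (hmem X g)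
  haveI : IsMonHom (F.map z) := inferInstance
  haveI : Mono (F.map z) := inferInstance
  -- smoothness
  haveI : Smooth Z'.hom := by
    obtain ⟨Z₁, _, j₁, hj₁, -, hZ₁⟩ := Groth.Agent.S5247.result H (Red.bc f Q) hHmt inferInstance inferInstance u
    haveI := hj₁.2.1
    obtain ⟨w₁, hw₁⟩ := (hj₁.2.2 _ (F.map z)).2 fun X' x h => ((hcent _ _).1 ⟨𝟙 _, Category.id_comp _⟩) X' x h
    obtain ⟨w₂, hw₂⟩ := (hcent _ j₁).2 fun X' x h => ((hj₁.2.2 _ j₁).1 ⟨𝟙 _, Category.id_comp _⟩) X' x h
    haveI : IsIso w₁ := ⟨w₂, (cancel_mono (F.map z)).1 (by rw [Category.assoc, hw₂, hw₁, Category.id_comp]),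
      (cancel_mono j₁).1 (by rw [Category.assoc, hw₁, hw₂, Category.id_comp])⟩
    haveI : IsIso w₁.left := inferInstanceAs (IsIso ((Over.forget _).map w₁))
    haveI : Smooth (F.obj Z').hom := by rw [← Over.w w₁]; infer_instance
    refine MorphismProperty.of_pullback_snd_of_descendsAlong (P := @Smooth)
      (Q := @Surjective ⊓ @Flat ⊓ @QuasiCompact) (f := Z'.hom) (g := f) ?_ ‹Smooth (F.obj Z').hom›
    exact ⟨⟨inferInstance, inferInstance⟩, inferInstance⟩
  obtain ⟨C₀, _, c, hcm, hco, hcc, hC₀s, -, hC₀c⟩ := exists_neutral Z'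
  haveI := hcm; haveI := hco; haveI := hcc; haveI := hC₀s; haveI := hC₀c
  haveI : IsAffine C₀.left := isAffine_of_isAffineHom c.left
  haveI : IsAffineHom C₀.hom := isAffineHom_of_isAffine _
  haveI : Mono c := GrpField.SchImg.mono_of_isClosedImmersion c
  haveI : IsClosedImmersion (c ≫ z).left := inferInstanceAs (IsClosedImmersion (c.left ≫ z.left))
  -- the subgroup is proper
  have hproper : Set.range (c ≫ z).left ≠ Set.univ := by
    intro huniv
    haveI : Surjective z.left := ⟨fun y => by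
      obtain ⟨x, hx⟩ := huniv.ge (Set.mem_univ y)
      exact ⟨c.left x, hx⟩⟩
    haveI : IsReduced Q.left := SmoothRed.isReduced_of_smooth_scheme Q.hom
    haveI : IsIso z.left := isIso_of_isClosedImmersion_of_surjective z.left
    haveI : IsIso ((Over.forget _).map z) := ‹IsIso z.left›
    haveI : IsIso z := isIso_of_reflects_iso z (Over.forget _)
    let R := CommAlgCat.of k (DualNumber k)
    let g : SpA R ⟶ Q := (ptsR e R).symm (GrMax.tanPt hv₀)
    have h := (hz _ g).1 ⟨g ≫ inv z, by rw [Category.assoc, IsIso.inv_hom_id, Category.comp_id]⟩ R (𝟙 _)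
    rw [Category.id_comp, MulEquiv.apply_symm_apply] at h
    have h' : C.mat (GrMax.tanPt hv₀) * e₀.map (algebraMap k (DualNumber k)) =
        e₀.map (algebraMap k (DualNumber k)) * C.mat (GrMax.tanPt hv₀) := h
    have h0 : adM e₀ (C.c.map v₀) = 0 := by
      ext r s
      have h2 := congrArg (fun W : Matrix (Fin n) (Fin n) (DualNumber k) => TrivSqZeroExt.snd (W r s)) h'
      simp only [Matrix.mul_apply, TrivSqZeroExt.snd_sum] at h2
      have e1 : ∀ r s, C.mat (GrMax.tanPt hv₀) r s =
          TrivSqZeroExt.inl ((1 : Matrix (Fin n) (Fin n) k) r s) + TrivSqZeroExt.inr (v₀ (C.c r s)) := by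
        intro r s
        show TrivSqZeroExt.inl (Bialgebra.counitAlgHom k B (C.c r s)) + TrivSqZeroExt.inr (v₀ (C.c r s)) = _
        rw [Bialgebra.counitAlgHom_apply, C.counit_c]
      simp only [e1, Matrix.map_apply, TrivSqZeroExt.algebraMap_eq_inl] at h2
      simp at h2
      rw [adM_apply, Matrix.sub_apply, Matrix.mul_apply, Matrix.mul_apply, Matrix.zero_apply, sub_eq_zero]
      simp only [Matrix.map_apply]
      exact h2.symm
    obtain ⟨N, hN⟩ := P.ad_zero _ h0
    exact hne₀ (adM_pow_eq_zero hN)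
  -- a torus through which the semisimple part factors
  obtain ⟨dC, hdC⟩ := Chev.exists_natDim' C₀
  obtain ⟨T, _, t, ht⟩ := exists_maxTorus_affine (dC + 1) C₀ (by rw [hdC]; exact_mod_cast Nat.lt_succ_self dC)
  haveI := ht.1; haveI := ht.2.1
  have hHloc : TwC.Locally (Spec (CommRingCat.of L)) TwC.Topology.fpqc (fun S' g => ∃ (M : Type) (_ : AddCommGroup M),
      Nonempty (Grp.mk (Red.bc g H) ≅ Grp.mk (Red.DS S' M))) := by
    obtain ⟨S', g, hf, hs, hl, hloc⟩ := hHmt
    exact ⟨S', g, hf, hs, hl, fun s => by obtain ⟨U, hU, M, hM, -, e⟩ := hloc s; exact ⟨U, hU, M, hM, e⟩⟩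
  obtain ⟨w, hw⟩ := (hcent _ u).2 fun X' x h => by
    rw [← MonObj.mul_comp, ← MonObj.mul_comp, MTBridge.comm_points_scheme H hHloc]
  haveI : IsMonHom w := MTSplit.isMonHom_of_comp_mono w (F.map z) u hw
  haveI : IsOpenImmersion (F.map c).left := MorphismProperty.baseChange_map (P := @IsOpenImmersion) f c ‹_›
  haveI : LocallyOfFiniteType (F.obj Z').hom := inferInstanceAs (LocallyOfFiniteType (pullback.snd Z'.hom f))
  obtain ⟨w₀, hw₀⟩ := exists_factor_connected w (F.map c)
  haveI : IsMonHom w₀ := MTSplit.isMonHom_of_comp_mono w₀ (F.map c) w hw₀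
  have hw₀c : ∀ (X : Over (Spec (CommRingCat.of L))) (x : X ⟶ H) (g : X ⟶ F.obj C₀),
      (x ≫ w₀) * g = g * (x ≫ w₀) := by
    intro X x g
    have h := ((hcent X (g ≫ F.map c ≫ F.map z)).1 ⟨g ≫ F.map c, Category.assoc _ _ _⟩) X (𝟙 X) x
    rw [← cancel_mono (F.map c ≫ F.map z), MonObj.mul_comp, MonObj.mul_comp, Category.assoc x w₀,
      reassoc_of% hw₀, hw]
    rw [Category.id_comp] at h
    exact h.symm
  haveI : Smooth (F.obj C₀).hom := inferInstanceAs (Smooth (pullback.snd C₀.hom f))
  haveI : IsAffineHom (F.obj C₀).hom := inferInstanceAs (IsAffineHom (pullback.snd C₀.hom f))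
  haveI : ConnectedSpace (F.obj C₀).left := AutFinOrd.connectedSpace_bc f C₀
  obtain ⟨wT, hwT⟩ := Groth.Agent.S8398.result _ (F.obj C₀) (fun s => by
      rw [show (F.obj C₀).hom.base ⁻¹' {s} = Set.univ from
        Set.eq_univ_of_forall fun y => Subsingleton.elim (α := PrimeSpectrum L) _ _]
      exact isConnected_univ)
    _ ((Over.pullback f).map t) (Chev.MaxTorusBC.isMaximalTorus_bc t ht f) H hHmt w₀ hw₀c
  haveI : Mono (t ≫ c ≫ z) := inferInstance
  obtain ⟨T₁, _, t₁, r, ht₁, hr⟩ := exists_maxTorus_containing (t ≫ c ≫ z) ht.2.2.1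
  haveI := ht₁.1; haveI := ht₁.2.1
  have hu₁ : (wT ≫ F.map r) ≫ F.map t₁ = u := by
    rw [Category.assoc, ← Functor.map_comp, hr, Functor.map_comp, Functor.map_comp, ← Category.assoc, hwT,
      reassoc_of% hw₀, hw]
  haveI : IsSeparated Q.hom := inferInstance
  obtain ⟨D, _, δ, hδ, hδcl, hδC, -⟩ := Groth.Agent.S4118.result _ Q T₁ t₁ ht₁
  haveI := hδC.1; haveI := hδC.2.1; haveI := hδC.2.2.1
  have hδL := Chev.CentBC.isCentralizerOf_bc f t₁ δ hδ
  obtain ⟨δ₀, hδ₀⟩ := exists_factor_descend f z δ ((hcent _ (F.map δ)).2 fun X' x h => by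
    rw [← hu₁, ← Category.assoc h]
    exact (hδL.2.2 _ _).1 ⟨𝟙 _, Category.id_comp _⟩ X' x _)
  haveI : IsMonHom δ₀ := MTSplit.isMonHom_of_comp_mono δ₀ z δ hδ₀
  haveI : Subsingleton ↥(Spec (CommRingCat.of k)) := inferInstanceAs (Subsingleton (PrimeSpectrum k))
  have hQconn : ∀ s : Spec (CommRingCat.of k), _root_.IsConnected (Q.hom.base ⁻¹' {s}) := fun s => by
    rw [show Q.hom.base ⁻¹' {s} = Set.univ from Set.eq_univ_of_forall fun x => Subsingleton.elim _ _]
    exact isConnected_univ
  haveI : ConnectedSpace D.left := connectedSpace_iff_univ.2 (by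
    have h := MTImage.isConnected_fibre_cartan hQconn δ hδC (IsLocalRing.closedPoint k)
    rwa [show D.hom.base ⁻¹' {IsLocalRing.closedPoint k} = Set.univ from
      Set.eq_univ_of_forall fun x => Subsingleton.elim _ _] at h)
  obtain ⟨dd, hdd⟩ := exists_factor_connected δ₀ c
  refine ⟨C₀, inferInstance, c ≫ z, D, inferInstance, dd, inferInstance, inferInstance, hC₀s, hC₀c, hproper,
    by rwa [← Category.assoc, hdd, hδ₀], by rwa [← Category.assoc, hdd, hδ₀], ?_⟩
  -- the vector itself
  let R := CommAlgCat.of k (DualNumber k)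
  obtain ⟨g₀, hg₀⟩ := (hz (SpA R) ((ptsR e R).symm (GrMax.tanPt hd₀))).2 fun R' p => by
    obtain ⟨φ, rfl⟩ : ∃ φ : (R : CommAlgCat.{u} k) →ₐ[k] R', sp (A := R) (B := R') φ = p :=
      ⟨{ toRingHom := (Spec.preimage p.left).hom
         commutes' := fun x => by
          have e1 : CommRingCat.ofHom (algebraMap k R) ≫ Spec.preimage p.left =
              CommRingCat.ofHom (algebraMap k R') := by
            apply Spec.map_injective
            rw [Spec.map_comp, Spec.map_preimage]
            exact Over.w p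
          exact congr($(e1) x) }, Over.OverMorphism.ext (Spec.map_preimage _)⟩
    rw [ptsR_sp, MulEquiv.apply_symm_apply, MatGen.mat_push]
    have hcomm : e₀ * C.c.map d = C.c.map d * e₀ := by
      rw [he₀]
      exact (Algebra.commute_of_mem_adjoin_self (Polynomial.aeval_mem_adjoin_singleton k _)).symm.eq
    have key : C.mat (GrMax.tanPt hd₀) * e₀.map (algebraMap k (DualNumber k)) =
        e₀.map (algebraMap k (DualNumber k)) * C.mat (GrMax.tanPt hd₀) := by
      have e1 : C.mat (GrMax.tanPt hd₀) = (1 : Matrix (Fin n) (Fin n) (DualNumber k)) +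
          (DualNumber.eps : DualNumber k) • (C.c.map d).map (algebraMap k (DualNumber k)) := by
        ext r s
        · show TrivSqZeroExt.fst ((GrMax.tanPt hd₀).ofConv (C.c r s)) = _
          rw [tanPt_apply, Bialgebra.counitAlgHom_apply, C.counit_c, Matrix.one_apply]
          simp [Matrix.one_apply]
          split_ifs <;> simp
        · show TrivSqZeroExt.snd ((GrMax.tanPt hd₀).ofConv (C.c r s)) = _
          rw [tanPt_apply]
          simp [Matrix.one_apply, TrivSqZeroExt.algebraMap_eq_inl, DualNumber.snd_mul]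
          split_ifs <;> simp
      rw [e1, Matrix.add_mul, Matrix.mul_add, Matrix.one_mul, Matrix.mul_one, Matrix.smul_mul, Matrix.mul_smul,
        ← Matrix.map_mul, ← Matrix.map_mul, hcomm]
    have key' := congrArg φ.mapMatrix key
    rw [map_mul, map_mul, AlgHom.mapMatrix_apply, AlgHom.mapMatrix_apply] at key'
    rwa [show (e₀.map (algebraMap k (DualNumber k))).map φ = e₀.map (algebraMap k R') from
      Matrix.ext fun i j => φ.commutes _] at key'
  have hg₁ : Set.range g₀.left ⊆ Set.range c.left := by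
    haveI : Subsingleton (SpA R).left := subsingleton_spec_dual k
    let pt₀ : SpA (CommAlgCat.of k k) ⟶ SpA R := sp (A := R) (B := CommAlgCat.of k k) (fstA k)
    have h1 : pt₀ ≫ g₀ = 1 := (cancel_mono z).1 ((ptsR e (CommAlgCat.of k k)).injective (by
      rw [Category.assoc, hg₀, ptsR_sp, MulEquiv.apply_symm_apply, MonObj.one_comp, map_one]
      refine WithConv.ext (AlgHom.ext fun b => ?_)
      show TrivSqZeroExt.fst ((GrMax.tanPt hd₀).ofConv b) = _
      rw [tanPt_apply, AlgHom.convOne_apply]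
      simp))
    rintro _ ⟨x, rfl⟩
    haveI : Nonempty (SpA (CommAlgCat.of k k)).left := ⟨IsLocalRing.closedPoint k⟩
    obtain ⟨y⟩ := ‹Nonempty (SpA (CommAlgCat.of k k)).left›
    rw [Subsingleton.elim x (pt₀.left y)]
    have h2 := congrArg Over.Hom.left h1
    rw [show (1 : SpA (CommAlgCat.of k k) ⟶ Z') = (1 : SpA (CommAlgCat.of k k) ⟶ C₀) ≫ c from
      (MonObj.one_comp c).symm, Over.comp_left, Over.comp_left] at h2
    rw [← Scheme.Hom.comp_apply, h2, Scheme.Hom.comp_apply]
    exact ⟨_, rfl⟩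
  refine ⟨Over.homMk (IsOpenImmersion.lift c.left g₀.left hg₁) (by
    show _ ≫ C₀.hom = _
    rw [← Over.w c, IsOpenImmersion.lift_fac_assoc, Over.w]), ?_⟩
  rw [← hg₀, ← Category.assoc]
  exact congrArg (· ≫ z) (Over.OverMorphism.ext (IsOpenImmersion.lift_fac _ _ _))

end Groth.Agent.DensePtsGrp
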